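import Cfsg.Agent.H989.Cov.El12
import Cfsg.Agent.H989.Cov.Res
import Cfsg.Agent.H955.QClass
import Cfsg.Agent.S5871
import Cfsg.Agent.S5874

/-!
# S2499, `Ω^±_12(2)`: the frame (helper989)

* `cases_minus`, `cases_plus` : the maximal subgroups over the field with two elements;
* `noTwo_omega_minus`, `noTwo_omega_plus` : `NoTwo (Omega F Q)` for forms on `F^12`, given the residual lists.
-/

set_option autoImplicit false
set_option linter.unusedSectionVars false
set_option linter.style.haveILetI false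

namespace Cfsg.Agent.H989.Cov

open Module Cfsg Cfsg.Geo QuadraticMap
open Cfsg.Agent.LieClassical.OrthCore Cfsg.Agent.LieClassical.OrthForms
open Cfsg.Agent.H182.Sign
open Cfsg.Agent.H278.Cov (Red Av Inc NoTwo noTwo_of_three)
open Cfsg.Agent.H383.Cov
open scoped MatrixGroups Matrix

variable {F : Type} [Field F] [Fintype F]

/-! ### Types -/

theorem nondeg_form {ι : Type} [Fintype ι] [DecidableEq ι] {Q : QuadraticForm F (ι → F)} (hQ : Nondeg Q) :
    IsNondegenerateQuadraticForm (⇑Q) where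
  smul c v := by rw [QuadraticMap.map_smul, smul_eq_mul, pow_two]
  polar_bilinear :=
    { add_left := fun x y v => polar_add_left Q x y v
      smul_left := fun c x v => by rw [polar_smul_left, smul_eq_mul]
      add_right := fun v x y => polar_add_right Q v x y
      smul_right := fun c v x => by rw [polar_smul_right, smul_eq_mul] }
  nondegenerate := by
    intro v hv
    have h1 : ∃ y, polar Q v y ≠ 0 := by
      by_contra hcon
      push Not at hcon
      exact hv (hQ v hcon)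
    obtain ⟨y, hy⟩ := h1
    exact ⟨⟨y, by rw [polar_comm]; exact hy⟩, ⟨y, hy⟩⟩

theorem plus_of_sg {Q : QuadraticForm F (Fin 12 → F)} (hs : Sg Q 6 1) : IsPlusTypeOn (⇑Q) ⊤ := by
  obtain ⟨e, he⟩ := Sg.exists_equiv (sg_plusForm (F := F) 6) hs
  have h1 : H955.IsPlus Q := by
    apply H955.IsPlus.of_equiv (Q := LieClassical.QuadForms.plusForm 6 F) e _ (H955.isPlus_plus 6)
    intro v
    rw [he, H403.Classify.plusForm_eq]
  obtain ⟨U, hU0, hd⟩ := h1
  exact ⟨U, le_top, fun u hu => hU0 u hu, by rw [finrank_top]; exact hd⟩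

theorem not_plus_of_sg {Q : QuadraticForm F (Fin 12 → F)} (hs : Sg Q 6 (-1)) : ¬ IsPlusTypeOn (⇑Q) ⊤ := by
  rintro ⟨U, -, hU0, hd⟩
  have h1 : H955.IsPlus Q := ⟨U, fun u hu => hU0 u hu, by rw [hd, finrank_top]⟩
  obtain ⟨e, he⟩ := H955.exists_plus_equiv 6 Q hs.nondeg hs.dim h1
  have h2 : Sg Q 6 1 := by
    refine (sg_plusForm (F := F) 6).congr e.symm fun v => ?_
    rw [← he, e.apply_symm_apply, H403.Classify.plusForm_eq]
  have h3 := (hs.sign.unique h2.sign hs.eps h2.eps).2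
  norm_num at h3

/-! ### The maximal subgroups -/

/-- the cases needed for the maximal subgroups of `Ω^±_12(2)` -/
def Cas (H : Subgroup (GL (Fin 12) F)) : Prop :=
  Red H ∨
  (∃ (t m : ℕ) (D : Fin t → Submodule F (Fin 12 → F)), t ≤ 6 ∧ m ≤ 6 ∧ IsMDecomposition m D ∧
    H ≤ decompositionStabilizer D) ∨
  (∃ (r : ℕ) (K : Subalgebra F (Matrix (Fin 12) (Fin 12) F)), (r = 2 ∨ r = 3) ∧ IsFieldSubalgebra r K ∧
    H ≤ subalgebraNormalizer K)

theorem red_of {Q : (Fin 12 → F) → F} {H : Subgroup (GL (Fin 12) F)} {W : Submodule F (Fin 12 → F)}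
    (h1 : finrank F W ≠ 0) (h2 : finrank F W ≠ 12) (hH : H = subspaceStabilizer W ⊓ omegaGL Q) : Red H := by
  refine ⟨W, ?_, ?_, by rw [hH]; exact inf_le_left⟩
  · rintro rfl
    exact h1 (finrank_bot F _)
  · rintro rfl
    apply h2
    rw [finrank_top, Module.finrank_fintype_fun_eq_card, Fintype.card_fin]

theorem red_ts {Q : (Fin 12 → F) → F} (hQ : IsNondegenerateQuadraticForm Q) {H : Subgroup (GL (Fin 12) F)}
    {W : Submodule F (Fin 12 → F)} (h1 : W ≠ ⊥) (h2 : IsTotallySingularQuad Q W)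
    (hH : H = subspaceStabilizer W ⊓ omegaGL Q) : Red H := by
  refine ⟨W, h1, ?_, by rw [hH]; exact inf_le_left⟩
  rintro rfl
  have h3 : ∀ v, Q v = 0 := fun v => h2 v trivial
  have h4 : (Pi.single 0 1 : Fin 12 → F) ≠ 0 := by
    intro h
    have := congrFun h 0
    simp at this
  obtain ⟨⟨x, hx⟩, -⟩ := hQ.nondegenerate _ h4
  apply hx
  rw [QuadraticMap.polar, h3, h3, h3, sub_zero, sub_zero]

theorem red_ns {Q : (Fin 12 → F) → F} (hQ : IsNondegenerateQuadraticForm Q) {H : Subgroup (GL (Fin 12) F)}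
    {v : Fin 12 → F} (hv : Q v ≠ 0) (hH : H = subspaceStabilizer (Submodule.span F {v}) ⊓ omegaGL Q) : Red H := by
  have h0 : v ≠ 0 := by
    rintro rfl
    apply hv
    have := hQ.smul 0 0
    rwa [zero_smul, zero_pow two_ne_zero, zero_mul] at this
  have h1 : finrank F (Submodule.span F {v}) = 1 := finrank_span_singleton h0
  exact red_of (by rw [h1]; norm_num) (by rw [h1]; norm_num) hH

theorem cases_minus (hF : Fintype.card F = 2) {Q : (Fin 12 → F) → F} (hQ : IsNondegenerateQuadraticForm Q)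
    (hminus : ¬ IsPlusTypeOn Q ⊤) {H : Subgroup (GL (Fin 12) F)} (hH : IsMaximalIn (omegaGL Q) H) :
    Cas H ∨ InOrthogonalResidualClass H := by
  rcases S5874.result Q hQ hminus H hH with h | h | h | h | h | h | h | h | h | h | h | h | h
  · obtain ⟨W, h1, h2, h3⟩ := h
    exact Or.inl (Or.inl (red_ts hQ h1 h2 h3))
  · exact absurd h.1 (by rw [hF]; decide)
  · obtain ⟨W, h1, -, -, h3⟩ := h
    exact Or.inl (Or.inl (red_of (by rw [h1]; norm_num) (by rw [h1]; norm_num) h3))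
  · exact absurd h.1 (by rw [hF]; norm_num)
  · obtain ⟨W, h1, -, h3⟩ := h
    exact Or.inl (Or.inl (red_of (by rw [h1]; norm_num) (by rw [h1]; norm_num) h3))
  · obtain ⟨W, h1, -, h3⟩ := h
    exact Or.inl (Or.inl (red_of (by rw [h1]; norm_num) (by rw [h1]; norm_num) h3))
  · obtain ⟨-, v, h1, h3⟩ := h
    exact Or.inl (Or.inl (red_ns hQ h1 h3))
  · obtain ⟨D, h1, -, h3⟩ := h
    exact Or.inl (Or.inr (Or.inl ⟨3, 4, D, by norm_num, by norm_num, h1.decomp.decomp, by rw [h3]; exact inf_le_left⟩))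
  · obtain ⟨K, h1, h3⟩ := h
    exact Or.inl (Or.inr (Or.inr ⟨2, K, Or.inl rfl, h1, by rw [h3]; exact inf_le_left⟩))
  · obtain ⟨K, h1, h3⟩ := h
    exact Or.inl (Or.inr (Or.inr ⟨3, K, Or.inr rfl, h1, by rw [h3]; exact inf_le_left⟩))
  · exact absurd h.1 (by rw [hF]; decide)
  · obtain ⟨F₀, r, P, ζ, hr, -, h1, -⟩ := h
    exfalso
    rw [hF] at h1
    have h2 : Nat.Prime (Nat.card F₀ ^ r) := by rw [← h1]; norm_num
    exact Nat.Prime.not_prime_pow hr.two_le h2
  · exact Or.inr h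

theorem cases_plus (hF : Fintype.card F = 2) {Q : (Fin 12 → F) → F} (hQ : IsNondegenerateQuadraticForm Q)
    (hplus : IsPlusTypeOn Q ⊤) {H : Subgroup (GL (Fin 12) F)} (hH : IsMaximalIn (omegaGL Q) H) :
    Cas H ∨ InOrthogonalResidualClass H := by
  rcases S5871.result Q hQ hplus H hH with
    h | h | h | h | h | h | h | h | h | h | h | h | h | h | h | h | h | h | h
  · obtain ⟨W, h1, h2, -, h3⟩ := h
    exact Or.inl (Or.inl (red_ts hQ h1 h2 h3))
  · exact absurd h.1 (by rw [hF]; decide)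
  · obtain ⟨W, h1, -, -, h3⟩ := h
    exact Or.inl (Or.inl (red_of (by rw [h1]; norm_num) (by rw [h1]; norm_num) h3))
  · exact absurd h.1 (by rw [hF]; norm_num)
  · obtain ⟨W, h1, -, h3⟩ := h
    exact Or.inl (Or.inl (red_of (by rw [h1]; norm_num) (by rw [h1]; norm_num) h3))
  · obtain ⟨-, v, h1, h3⟩ := h
    exact Or.inl (Or.inl (red_ns hQ h1 h3))
  · obtain ⟨⟨p, h1, h2, h3⟩, -⟩ := h
    exfalso
    rw [hF] at h3
    rw [← h3] at h2
    exact absurd h2 (by decide)
  · exact absurd h.1 (by rw [hF]; norm_num)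
  · obtain ⟨-, D, h1, -, h3⟩ := h
    exact Or.inl (Or.inr (Or.inl ⟨6, 2, D, by norm_num, by norm_num, h1.decomp.decomp, by rw [h3]; exact inf_le_left⟩))
  · exact absurd h.1 (by rw [hF]; decide)
  · exact absurd h.1 (by rw [hF]; norm_num)
  · obtain ⟨D, h1, h3⟩ := h
    exact Or.inl (Or.inr (Or.inl ⟨2, 6, D, by norm_num, by norm_num, h1.decomp.decomp, by rw [h3]; exact inf_le_left⟩))
  · obtain ⟨D, h1, -, h3⟩ := h
    exact Or.inl (Or.inr (Or.inl ⟨2, 6, D, by norm_num, by norm_num, h1, by rw [h3]; exact inf_le_left⟩))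
  · obtain ⟨K, h1, h3⟩ := h
    exact Or.inl (Or.inr (Or.inr ⟨2, K, Or.inl rfl, h1, by rw [h3]; exact inf_le_left⟩))
  · obtain ⟨K, h1, h3⟩ := h
    exact Or.inl (Or.inr (Or.inr ⟨3, K, Or.inr rfl, h1, by rw [h3]; exact inf_le_left⟩))
  · obtain ⟨K, h1, -, -, -, h3⟩ := h
    exact Or.inl (Or.inr (Or.inr ⟨2, K, Or.inl rfl, h1, by rw [h3]; exact inf_le_left⟩))
  · exact absurd h.1 (by rw [hF]; norm_num)
  · obtain ⟨F₀, r, P, ζ, hr, h1, -⟩ := h
    exfalso
    rw [hF] at h1
    have h2 : Nat.Prime (Nat.card F₀ ^ r) := by rw [← h1]; norm_num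
    exact Nat.Prime.not_prime_pow hr.two_le h2
  · exact Or.inr h

/-! ### Kills -/

/-- an element with a block of dimension `k`, of prime order -/
structure Bp (k : ℕ) (x : GL (Fin 12) F) : Prop where
  prime : (orderOf x).Prime
  big : 6 < orderOf x
  blk : Blk k x

theorem Bp.conj {k : ℕ} {x : GL (Fin 12) F} (h : Bp k x) (g : GL (Fin 12) F) : Bp k (g * x * g⁻¹) :=
  ⟨by rw [orderOf_conj]; exact h.prime, by rw [orderOf_conj]; exact h.big, h.blk.conj g⟩

theorem Bp.coprime {k : ℕ} {x : GL (Fin 12) F} (h : Bp k x) {r : ℕ} (hr : r = 2 ∨ r = 3) : (orderOf x).Coprime r := by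
  have h1 := h.big
  rcases hr with rfl | rfl
  · exact (Nat.coprime_primes h.prime Nat.prime_two).2 (by omega)
  · exact (Nat.coprime_primes h.prime Nat.prime_three).2 (by omega)

/-- the cases of decompositions and fields of degree three -/
theorem kill_dec {k : ℕ} (hk : 6 < k) {x : GL (Fin 12) F} (hx : Bp k x) {H : Subgroup (GL (Fin 12) F)} (hxH : x ∈ H)
    {t m : ℕ} {D : Fin t → Submodule F (Fin 12 → F)} (ht : t ≤ 6) (hm : m ≤ 6) (hD : IsMDecomposition m D)
    (hH : H ≤ decompositionStabilizer D) : False :=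
  dec_kill hD (hH hxH) hx.prime (lt_of_le_of_lt ht hx.big) hx.blk (lt_of_le_of_lt hm hk)

/-- `Cas` and two blocks of different parity -/
theorem cas_parity {Q : (Fin 12 → F) → F} (hQ : IsNondegenerateQuadraticForm Q) {H : Subgroup (GL (Fin 12) F)}
    (hHQ : H ≤ isometryGroup F Q) (hR : ¬ Red H) (hc : Cas H) {a b : ℕ} {x y : GL (Fin 12) F} (hx : x ∈ H) (hy : y ∈ H)
    (ha : Even a) (hb : Odd b) (hb5 : 3 < b) (ha3 : 1 ≤ a) (hb3 : ¬ 3 ∣ 2 * b) (bx : Bp (2 * a) x) (bY : Bp (2 * b) y)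
    (hMx : orderOf x ∣ Nat.card F ^ a + 1) (hMy : orderOf y ∣ Nat.card F ^ b + 1) : False := by
  rcases hc with h | ⟨t, m, D, ht, hm, hD, hH⟩ | ⟨r, K, hr, hK, hH⟩
  · exact hR h
  · exact kill_dec (by omega) bY hy ht hm hD hH
  · rcases hr with rfl | rfl
    · exact parity hQ hHQ hR hK hH hx hy ha3 (by omega) ha hb
        (bx.prime.eq_two_or_odd'.resolve_left (by have := bx.big; omega))
        (bY.prime.eq_two_or_odd'.resolve_left (by have := bY.big; omega)) hMx hMy bx.blk bY.blk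
    · exact fld_kill hK (hH hy) (bY.coprime (Or.inr rfl)) (by rw [bY.blk.rk]; exact hb3)

/-- `Cas`, a large block and an element of type `pos 5` -/
theorem cas_zd {H : Subgroup (GL (Fin 12) F)} (hR : ¬ Red H) (hc : Cas H) {k : ℕ} {x z : GL (Fin 12) F} (hx : x ∈ H)
    (hz : z ∈ H) (hk : 6 < k) (bx : Bp k x) (hzd : Zd z) : False := by
  obtain ⟨j, h1, P, h2⟩ := hzd
  rcases hc with h | ⟨t, m, D, ht, hm, hD, hH⟩ | ⟨r, K, hr, hK, hH⟩
  · exact hR h
  · exact kill_dec hk bx hx ht hm hD hH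
  · have h3 := kill hK (hH (H.pow_mem hz j)) (by rw [h1]; rcases hr with rfl | rfl <;> norm_num) P
    rw [h2] at h3
    rcases hr with rfl | rfl <;> norm_num at h3

/-! ### The main theorems -/

/-- the residual class of `Ω^-_12(2)` -/
def ResM (Q : (Fin 12 → F) → F) : Prop :=
  ∀ H : Subgroup (GL (Fin 12) F), IsMaximalIn (omegaGL Q) H → InOrthogonalResidualClass H →
    ∃ P : Subgroup (GL (Fin 12) F), IsResidualCore H P ∧
      (Nonempty ((P ⧸ (scalars (Fin 12) F).subgroupOf P) ≃* Matrix.ProjectiveSpecialLinearGroup (Fin 3) (ZMod 3)) ∨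
        Nonempty ((P ⧸ (scalars (Fin 12) F).subgroupOf P) ≃* alternatingGroup (Fin 13)))

/-- the residual class of `Ω^+_12(2)` is empty -/
def ResP (Q : (Fin 12 → F) → F) : Prop :=
  ∀ H : Subgroup (GL (Fin 12) F), IsMaximalIn (omegaGL Q) H → ¬ InOrthogonalResidualClass H

theorem le_isom {Q : (Fin 12 → F) → F} {H : Subgroup (GL (Fin 12) F)} (hH : IsMaximalIn (omegaGL Q) H) :
    H ≤ isometryGroup F Q := hH.1.le.trans (omegaGL_le Q)

theorem noTwo_omega_minus (hF : Fintype.card F = 2) {Q : QuadraticForm F (Fin 12 → F)} (hs : Sg Q 6 (-1))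
    (hres : ResM ⇑Q) : NoTwo (Omega F ⇑Q) := by
  have hQ := nondeg_form hs.nondeg
  have hm := not_plus_of_sg hs
  have hFc : Nat.card F = 2 := by rw [Nat.card_eq_fintype_card, hF]
  obtain ⟨A, hA, a1, a2, a3⟩ := mA hF hs
  obtain ⟨B, hB, b0, ⟨b1, b2⟩, b3, b4⟩ := mB hF hs
  obtain ⟨C, hC, c1, c2, c3⟩ := mC hF hs
  have bA : Bp 12 A := ⟨by rw [a1]; norm_num, by rw [a1]; norm_num, a2⟩
  have bB : Bp 10 (B ^ 3) := ⟨by rw [b1]; norm_num, by rw [b1]; norm_num, b2⟩
  obtain ⟨A', rfl⟩ : ∃ A', emb ⇑Q A' = A := by rw [← range_emb] at hA; exact hA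
  obtain ⟨B', rfl⟩ : ∃ B', emb ⇑Q B' = B := by rw [← range_emb] at hB; exact hB
  obtain ⟨C', rfl⟩ : ∃ C', emb ⇑Q C' = C := by rw [← range_emb] at hC; exact hC
  have hz31 : ∀ {z : GL (Fin 12) F}, Zd z → ∃ j, orderOf (z ^ j) = 31 := fun ⟨j, h, _⟩ => ⟨j, h⟩
  refine noTwo_of_three (x := A') (y := B') (z := C') (inc_of_max fun H hmax g hg g' hg' h1 h2 => ?_)
    (inc_of_max fun H hmax g hg g' hg' h1 h2 => ?_) (inc_of_max fun H hmax g hg g' hg' h1 h2 => ?_)
  · -- 13 and 33
    have hR : ¬ Red H := fun hR => red_dims hR h1 h2 (a3.conj g) (b3.conj g') (by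
      intro d d0 d1 d2 d3
      rw [Fintype.card_fin] at d1
      simp only [Set.mem_insert_iff, Set.mem_singleton_iff] at d2
      omega)
    have h3 := H.pow_mem h2 3
    rw [conj_pow] at h3
    rcases cases_minus hF hQ hm hmax with hc | hc
    · exact cas_parity hQ (le_isom hmax) hR hc (a := 6) (b := 5) h1 h3 (by decide) (by decide) (by norm_num)
        (by norm_num) (by norm_num) (bA.conj g) (bB.conj g') (by rw [orderOf_conj, a1, hFc]; norm_num)
        (by rw [orderOf_conj, b1, hFc]; norm_num)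
    · obtain ⟨P, hP, ⟨⟨e⟩⟩ | ⟨⟨e⟩⟩⟩ := hres H hmax hc
      · exact l33_kill hF hP e h3 (Or.inl (by rw [orderOf_conj, b1]))
      · exact a13_kill hF hP e h2 (Or.inr (by rw [orderOf_conj, b0]))
  · -- 33 and 93
    have hR : ¬ Red H := fun hR => red_two hs.nondeg hR (le_isom hmax) h1 h2 (b3.conj g) (c2.conj g')
      (b4.conj (omegaGL_le _ hg)) (c3.conj (omegaGL_le _ hg')) (by
        intro d d0 d1 d2 d3
        rw [Fintype.card_fin] at d1 ⊢
        simp only [Set.mem_ofPred_eq] at d2 d3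
        omega)
    have h3 := H.pow_mem h1 3
    rw [conj_pow] at h3
    rcases cases_minus hF hQ hm hmax with hc | hc
    · exact cas_zd hR hc h3 h2 (by norm_num) (bB.conj g) (c1.conj g')
    · obtain ⟨j, hj⟩ := hz31 (c1.conj g')
      have h4 := H.pow_mem h2 j
      obtain ⟨P, hP, ⟨⟨e⟩⟩ | ⟨⟨e⟩⟩⟩ := hres H hmax hc
      · exact l33_kill hF hP e h4 (Or.inr hj)
      · exact a13_kill hF hP e h4 (Or.inl hj)
  · -- 13 and 93
    have hR : ¬ Red H := fun hR => red_dims hR h1 h2 (a3.conj g) (c2.conj g') (by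
      intro d d0 d1 d2 d3
      rw [Fintype.card_fin] at d1
      simp only [Set.mem_insert_iff, Set.mem_singleton_iff] at d2
      omega)
    rcases cases_minus hF hQ hm hmax with hc | hc
    · exact cas_zd hR hc h1 h2 (by norm_num) (bA.conj g) (c1.conj g')
    · obtain ⟨j, hj⟩ := hz31 (c1.conj g')
      have h4 := H.pow_mem h2 j
      obtain ⟨P, hP, ⟨⟨e⟩⟩ | ⟨⟨e⟩⟩⟩ := hres H hmax hc
      · exact l33_kill hF hP e h4 (Or.inr hj)
      · exact a13_kill hF hP e h4 (Or.inl hj)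

theorem noTwo_omega_plus (hF : Fintype.card F = 2) {Q : QuadraticForm F (Fin 12 → F)} (hs : Sg Q 6 1)
    (hres : ResP ⇑Q) : NoTwo (Omega F ⇑Q) := by
  have hQ := nondeg_form hs.nondeg
  have hp := plus_of_sg hs
  have hFc : Nat.card F = 2 := by rw [Nat.card_eq_fintype_card, hF]
  obtain ⟨A, hA, ⟨i, a1, a2⟩, a3, a4⟩ := pN hF hs (a := 5) (b := 1) (M := 11) (N := 3) (by norm_num) (by norm_num)
    (by norm_num) (by norm_num) (by norm_num) (by decide) (by decide) (by norm_num) bn_11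
    (by intro j h1 h2; interval_cases j <;> norm_num) (by intro j h1 h2; interval_cases j; norm_num)
  obtain ⟨B, hB, ⟨j, b1, b2⟩, b3, -⟩ := pN hF hs (a := 4) (b := 2) (M := 17) (N := 5) (by norm_num) (by norm_num)
    (by norm_num) (by norm_num) (by norm_num) (by decide) (by decide) (by norm_num) bn_17
    (by intro j h1 h2; interval_cases j <;> norm_num) (by intro j h1 h2; interval_cases j <;> norm_num)
  obtain ⟨C, hC, c1, c2, c3⟩ := pC hF hs
  have bA : Bp 10 (A ^ i) := ⟨by rw [a1]; norm_num, by rw [a1]; norm_num, a2⟩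
  have bB : Bp 8 (B ^ j) := ⟨by rw [b1]; norm_num, by rw [b1]; norm_num, b2⟩
  obtain ⟨A', rfl⟩ : ∃ A', emb ⇑Q A' = A := by rw [← range_emb] at hA; exact hA
  obtain ⟨B', rfl⟩ : ∃ B', emb ⇑Q B' = B := by rw [← range_emb] at hB; exact hB
  obtain ⟨C', rfl⟩ : ∃ C', emb ⇑Q C' = C := by rw [← range_emb] at hC; exact hC
  have hcas : ∀ {H : Subgroup (GL (Fin 12) F)}, IsMaximalIn (omegaGL ⇑Q) H → Cas H := fun {H} hmax =>
    (cases_plus hF hQ hp hmax).resolve_right (hres H hmax)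
  refine noTwo_of_three (x := A') (y := B') (z := C') (inc_of_max fun H hmax g hg g' hg' h1 h2 => ?_)
    (inc_of_max fun H hmax g hg g' hg' h1 h2 => ?_) (inc_of_max fun H hmax g hg g' hg' h1 h2 => ?_)
  · -- 11 and 17
    have hR : ¬ Red H := fun hR => red_dims hR h1 h2 (a3.conj g) (b3.conj g') (by
      intro d d0 d1 d2 d3
      rw [Fintype.card_fin] at d1
      simp only [Set.mem_ofPred_eq] at d2 d3
      omega)
    have h3 := H.pow_mem h1 i
    have h4 := H.pow_mem h2 j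
    rw [conj_pow] at h3 h4
    exact cas_parity hQ (le_isom hmax) hR (hcas hmax) (a := 4) (b := 5) h4 h3 (by decide) (by decide) (by norm_num)
      (by norm_num) (by norm_num) (bB.conj g') (bA.conj g) (by rw [orderOf_conj, b1, hFc]; norm_num)
      (by rw [orderOf_conj, a1, hFc]; norm_num)
  · -- 17 and 31
    have hR : ¬ Red H := fun hR => red_dims hR h1 h2 (b3.conj g) (c2.conj g') (by
      intro d d0 d1 d2 d3
      rw [Fintype.card_fin] at d1
      simp only [Set.mem_ofPred_eq] at d2 d3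
      omega)
    have h3 := H.pow_mem h1 j
    rw [conj_pow] at h3
    exact cas_zd hR (hcas hmax) h3 h2 (by norm_num) (bB.conj g) (c1.conj g')
  · -- 11 and 31
    have hR : ¬ Red H := fun hR => red_two hs.nondeg hR (le_isom hmax) h2 h1 (c2.conj g') (a3.conj g)
      (c3.conj (omegaGL_le _ hg')) ((a4 rfl).conj (omegaGL_le _ hg)) (by
        intro d d0 d1 d2 d3
        rw [Fintype.card_fin] at d1 ⊢
        simp only [Set.mem_ofPred_eq] at d2 d3
        omega)
    have h3 := H.pow_mem h1 i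
    rw [conj_pow] at h3
    exact cas_zd hR (hcas hmax) h3 h2 (by norm_num) (bA.conj g) (c1.conj g')

end Cfsg.Agent.H989.Cov
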