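import Cfsg.Agent.H989.Cov.Twelve
import Cfsg.Agent.ClassicalGeometry.OddInvolutions
import Cfsg.Agent.LieClassical.OrthFourCommon

/-!
# S2499, `Ω^±_12(2)`: the standard forms (helper989)

* `noTwo_pomega_congr` : transport along an isometry;
* `noTwo_pom_minus`, `noTwo_pom_plus` : `NoTwo (POmega ..)` given the residual lists;

-/

set_option autoImplicit false
set_option linter.unusedSectionVars false
set_option linter.style.haveILetI false

namespace Cfsg.Agent.H989.Cov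

open Module Cfsg Cfsg.Geo QuadraticMap
open Cfsg.Agent.LieClassical.OrthCore Cfsg.Agent.LieClassical.OrthForms
open Cfsg.Agent.H182.Sign
open Cfsg.Agent.H278.Cov (NoTwo)
open scoped MatrixGroups Matrix

/-- transport of `NoTwo` along an isometry -/
theorem noTwo_pomega_congr {F : Type} [Field F] {ι κ : Type} [Fintype ι] [DecidableEq ι] [Fintype κ] [DecidableEq κ]
    {Q : (ι → F) → F} {Q' : (κ → F) → F} (j : (ι → F) ≃ₗ[F] (κ → F)) (hj : ∀ x, Q' (j x) = Q x)
    (h : NoTwo (Omega F Q)) : NoTwo (POmega F Q') := by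
  have h1 : NoTwo (POmega F Q) := h.of_surjective (QuotientGroup.mk' _) (QuotientGroup.mk'_surjective _)
  obtain ⟨e0⟩ := LieClassical.OrthFourCommon.exists_isometryGroup_equiv j Q Q' hj
  obtain ⟨e1⟩ := LieClassical.OrthFourCommon.exists_isometryGroup_equiv (LinearEquiv.refl F (κ → F)) Q' Q'
    (fun v => rfl)
  obtain ⟨e2⟩ := ClassicalGeometry.OddInvolutions.commutator_quot_center_congr (e0.trans e1.symm)
  exact NoTwo.congr h1 e2

variable {F : Type} [Field F] [Fintype F]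

/-- transport from forms on `F^12` -/
theorem noTwo_of_twelve {κ : Type} [Fintype κ] [DecidableEq κ] (hκ : Fintype.card κ = 12) {Q : QuadraticForm F (κ → F)}
    {ε : ℤ} (hs : Sg Q 6 ε) (h : ∀ Q' : QuadraticForm F (Fin 12 → F), Sg Q' 6 ε → NoTwo (Omega F ⇑Q')) :
    NoTwo (POmega F ⇑Q) := by
  let e : Fin 12 ≃ κ := (Fintype.equivFinOfCardEq hκ).symm
  let j : (κ → F) ≃ₗ[F] (Fin 12 → F) := LinearEquiv.funCongrLeft F F e
  let Q' : QuadraticForm F (Fin 12 → F) := Q.comp (j.symm : (Fin 12 → F) →ₗ[F] (κ → F))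
  have hQ' : ∀ v, Q' (j v) = Q v := by
    intro v
    change Q (j.symm (j v)) = Q v
    rw [j.symm_apply_apply]
  have hs' : Sg Q' 6 ε := hs.congr j hQ'
  exact noTwo_pomega_congr j.symm (fun x => rfl) (h Q' hs')

theorem noTwo_pom_minus (hF : Fintype.card F = 2) {a b : F}
    (hab : ∀ z₁ z₂ : F, z₁ ^ 2 + a * z₁ * z₂ + b * z₂ ^ 2 = 0 → z₁ = 0 ∧ z₂ = 0)
    (hres : ∀ Q : QuadraticForm F (Fin 12 → F), Sg Q 6 (-1) → ResM ⇑Q) :
    NoTwo (POmega F (quadFormMinus 5 F a b)) := by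
  rw [← coe_minusForm]
  exact noTwo_of_twelve (by simp) (sg_minusForm 5 hab) fun Q' hs' => noTwo_omega_minus hF hs' (hres Q' hs')

theorem noTwo_pom_plus (hF : Fintype.card F = 2)
    (hres : ∀ Q : QuadraticForm F (Fin 12 → F), Sg Q 6 1 → ResP ⇑Q) : NoTwo (POmega F (quadFormPlus 6 F)) := by
  rw [← coe_plusForm]
  exact noTwo_of_twelve (by simp) (sg_plusForm 6) fun Q' hs' => noTwo_omega_plus hF hs' (hres Q' hs')

end Cfsg.Agent.H989.Cov
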