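import Cfsg.Agent.H989.Cov.Pom
import Cfsg.Agent.S5872
import Cfsg.Agent.S5875

/-!
# S2499: `NoTwo` for `Ω^-_12(2)` and `Ω^+_12(2)` (helper989)
-/

set_option autoImplicit false
set_option linter.unusedSectionVars false

namespace Cfsg.Agent.H989.Cov

open Module Cfsg Cfsg.Geo
open Cfsg.Agent.H182.Sign
open Cfsg.Agent.H278.Cov (NoTwo)
open scoped MatrixGroups Matrix

variable {F : Type} [Field F] [Fintype F]

/-- the residual class of `Ω^-_12(2)` -/
theorem resM_of_list (hF : Fintype.card F = 2) {Q : QuadraticForm F (Fin 12 → F)} (hs : Sg Q 6 (-1)) : ResM ⇑Q := by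
  intro H hH hS
  obtain ⟨P, p, hc, hp, -, h | h | h | h | h⟩ := S5875.result ⇑Q (nondeg_form hs.nondeg) (not_plus_of_sg hs) H hH hS
  · exfalso
    rcases h.2 with ⟨h1, h2⟩ | ⟨h1, -⟩
    · rw [hF] at h1
      subst h1
      omega
    · rw [hF] at h1
      have h2 : Nat.Prime (p ^ 2) := by rw [← h1]; exact Nat.prime_two
      exact Nat.Prime.not_prime_pow le_rfl h2
  · exfalso
    rcases h.2 with ⟨h1, h2, -⟩ | ⟨h1, -⟩
    · rw [hF] at h1
      subst h1
      omega
    · rw [hF] at h1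
      have h2 : Nat.Prime (p ^ 3) := by rw [← h1]; exact Nat.prime_two
      exact Nat.Prime.not_prime_pow (by norm_num) h2
  · exact ⟨P, hc, Or.inl h.1⟩
  · exact ⟨P, hc, Or.inr h.1⟩
  · exfalso
    have h1 := h.2
    rw [hF] at h1
    omega

/-- the residual class of `Ω^+_12(2)` is empty -/
theorem resP_of_list (hF : Fintype.card F = 2) {Q : QuadraticForm F (Fin 12 → F)} (hs : Sg Q 6 1) : ResP ⇑Q := by
  intro H hH hS
  obtain ⟨P, p, hc, hp, -, h | h | h | h | h⟩ := S5872.result ⇑Q (nondeg_form hs.nondeg) (plus_of_sg hs) H hH hS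
  · have h1 := h.2.1
    have h2 := h.2.2
    rw [hF] at h1
    subst h1
    omega
  · rcases h.2 with ⟨h1, h2, -⟩ | ⟨h1, -⟩
    · rw [hF] at h1
      subst h1
      omega
    · rw [hF] at h1
      have h2 : Nat.Prime (p ^ 3) := by rw [← h1]; exact Nat.prime_two
      exact Nat.Prime.not_prime_pow (by norm_num) h2
  · have h1 := h.2.1
    have h2 := h.2.2.2.1
    rw [hF] at h1
    subst h1
    omega
  · have h1 := h.2.1
    have h2 := h.2.2
    rw [hF] at h1
    subst h1
    omega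
  · have h1 := h.2.1
    have h2 := h.2.2
    rw [hF] at h1
    subst h1
    omega

/-- **`Ω^-_12(2)`** -/
theorem noTwo_minus_twelve_two (hF : Fintype.card F = 2) {a b : F}
    (hab : ∀ z₁ z₂ : F, z₁ ^ 2 + a * z₁ * z₂ + b * z₂ ^ 2 = 0 → z₁ = 0 ∧ z₂ = 0) :
    NoTwo (POmega F (quadFormMinus 5 F a b)) :=
  noTwo_pom_minus hF hab fun _ hs => resM_of_list hF hs

/-- **`Ω^+_12(2)`** -/
theorem noTwo_plus_twelve_two (hF : Fintype.card F = 2) : NoTwo (POmega F (quadFormPlus 6 F)) :=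
  noTwo_pom_plus hF fun _ hs => resP_of_list hF hs

end Cfsg.Agent.H989.Cov
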