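import Cfsg.Agent.H708.O8.Defs
import Cfsg.Agent.H383.Cov.Inv
import Cfsg.Agent.S0126

/-!
# COV-O8+ (S2499): the numbers `r`, `b` and elements with a commutator space of dimension four (helper989)

* `exists_rb` : the primes of `RB`;
* `exists_four` : a noncyclic `r`-subgroup of `GL_8(q)` contains an element `g` of order `r` with `dim [V, g] = 4`.
-/

set_option autoImplicit false
set_option linter.unusedSectionVars false

namespace Cfsg.Agent.H989.Cov.O8

open Module Cfsg Cfsg.Geo Cfsg.Agent.H708.O8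
open Cfsg.Agent.H951 (fx cm Inv)
open Cfsg.Agent.H884.El
open Cfsg.Agent.H436 (Prim exists_prim)
open scoped MatrixGroups Matrix

/-! ### Numbers -/

theorem four_dvd_pred {p e r : ℕ} (h : Prim p e r) : e ∣ r - 1 := by
  have := Fact.mk h.prime
  rw [← h.dvd_iff]
  have h0 : (p : ZMod r) ≠ 0 := by
    rw [Ne, ZMod.natCast_eq_zero_iff]
    exact h.not_dvd
  have h1 := ZMod.pow_card_sub_one_eq_one h0
  have hp : 0 < p ^ (r - 1) := by
    apply Nat.pos_of_ne_zero
    intro h2
    have h3 : p = 0 := by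
      by_contra h4
      exact (pow_ne_zero _ h4) h2
    exact h.not_dvd (h3 ▸ dvd_zero r)
  rw [← ZMod.natCast_eq_zero_iff, Nat.cast_sub hp, Nat.cast_pow, h1, Nat.cast_one, sub_self]

/-- an odd prime divisor of `p² + 1` -/
theorem prim_four {p r : ℕ} (hr : r.Prime) (hr2 : r ≠ 2) (hd : r ∣ p ^ 2 + 1) : Prim p 4 r := by
  have := Fact.mk hr
  have h1 : (p : ZMod r) ^ 2 = -1 := by
    have h2 : ((p ^ 2 + 1 : ℕ) : ZMod r) = 0 := (ZMod.natCast_eq_zero_iff _ _).2 hd
    push_cast at h2
    linear_combination h2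
  have h2 : (2 : ZMod r) ≠ 0 := by
    intro h3
    have h4 : ((2 : ℕ) : ZMod r) = 0 := by exact_mod_cast h3
    rw [ZMod.natCast_eq_zero_iff] at h4
    exact hr2 ((Nat.prime_dvd_prime_iff_eq hr Nat.prime_two).1 h4)
  have hne : (p : ZMod r) ≠ 0 := by
    intro h3
    rw [h3, zero_pow two_ne_zero] at h1
    exact one_ne_zero (neg_eq_zero.1 h1.symm)
  have h3 : orderOf (p : ZMod r) = 4 := by
    have h4 := orderOf_eq_prime_pow (x := (p : ZMod r)) (p := 2) (n := 1)
      (by
        rw [pow_one, h1]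
        intro h5
        apply h2
        linear_combination -h5)
      (by
        rw [show (2 : ℕ) ^ (1 + 1) = 2 * 2 by norm_num, pow_mul, h1]
        ring)
    rw [h4]
    norm_num
  have hp0 : p ≠ 0 := by
    rintro rfl
    exact hne (by rw [Nat.cast_zero])
  refine ⟨hr, fun m => ?_, fun h => hne ((ZMod.natCast_eq_zero_iff _ _).2 h)⟩
  have hp : 0 < p ^ m := Nat.pos_of_ne_zero (pow_ne_zero _ hp0)
  rw [← ZMod.natCast_eq_zero_iff, Nat.cast_sub hp, Nat.cast_pow, Nat.cast_one, sub_eq_zero, ← h3,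
    orderOf_dvd_iff_pow_eq_one]

theorem rb_of {p a r b : ℕ} (hp : p.Prime) (ha : 1 ≤ a) (h : Prim p (4 * a) r)
    (hb : b = (p ^ (2 * a) + 1).factorization r)
    (hc : (13 ≤ r ∧ 1 ≤ b) ∨ (r = 5 ∧ 2 ≤ b ∧ 7 ≤ p ∧ a = 1) ∨ (r = 5 ∧ b = 1 ∧ (p = 2 ∨ p = 3) ∧ a = 1)) :
    RB p a r b := by
  subst hb
  refine ⟨hp, ha, h, Nat.ordProj_dvd _ _, Nat.pow_succ_factorization_not_dvd (Nat.succ_ne_zero _) h.prime, hc⟩

theorem one_le_fact {p a r : ℕ} (ha : 1 ≤ a) (h : Prim p (4 * a) r) : 1 ≤ (p ^ (2 * a) + 1).factorization r := by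
  have h1 : r ∣ p ^ (2 * a) + 1 := by
    apply h.dvd_add
    · exact ⟨1, by ring⟩
    · intro hd
      have := Nat.le_of_dvd (by omega) hd
      omega
  exact (h.prime.dvd_iff_one_le_factorization (Nat.succ_ne_zero _)).1 h1

theorem exists_rb {p a : ℕ} (hp : p.Prime) (ha : 1 ≤ a) : ∃ r b, RB p a r b := by
  rcases Nat.lt_or_ge a 2 with h2 | h2
  · obtain rfl : a = 1 := by omega
    have hp2 := hp.two_le
    by_cases hex : ∃ r, r.Prime ∧ 13 ≤ r ∧ r ∣ p ^ 2 + 1
    · obtain ⟨r, hr, h13, hd⟩ := hex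
      have h := prim_four hr (by omega) hd
      exact ⟨r, _, rb_of hp le_rfl h rfl (Or.inl ⟨h13, one_le_fact le_rfl h⟩)⟩
    · push Not at hex
      -- the prime divisors are 2 and 5
      have hdiv : ∀ r, r.Prime → r ∣ p ^ 2 + 1 → r = 2 ∨ r = 5 := by
        intro r hr hd
        by_cases h : r = 2
        · exact Or.inl h
        right
        have h1 := four_dvd_pred (prim_four hr h hd)
        have h3 : r < 13 := by
          by_contra h4
          exact hex r hr (by omega) hd
        have h4 := hr.two_le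
        interval_cases r <;> first | rfl | (exfalso; revert h1 hr; norm_num)
      rcases Nat.lt_or_ge p 7 with h7 | h7
      · interval_cases p
        · -- p = 2
          have h := prim_four (p := 2) (r := 5) (by norm_num) (by norm_num) (by norm_num)
          refine ⟨5, 1, hp, le_rfl, h, by norm_num, by norm_num, Or.inr (Or.inr ⟨rfl, rfl, Or.inl rfl, rfl⟩)⟩
        · have h := prim_four (p := 3) (r := 5) (by norm_num) (by norm_num) (by norm_num)
          refine ⟨5, 1, hp, le_rfl, h, by norm_num, by norm_num, Or.inr (Or.inr ⟨rfl, rfl, Or.inr rfl, rfl⟩)⟩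
        · exact absurd hp (by norm_num)
        · exfalso
          have := hdiv 13 (by norm_num) (by norm_num)
          omega
        · exact absurd hp (by norm_num)
      · -- `p² + 1 = 2 * 5 ^ b`
        set N := p ^ 2 + 1 with hN
        have hN0 : N ≠ 0 := Nat.succ_ne_zero _
        have hpo : p % 2 = 1 := hp.eq_two_or_odd.resolve_left (by omega)
        have hN4 : ¬ 4 ∣ N := by
          intro h4
          obtain ⟨k, hk⟩ : ∃ k, p = 2 * k + 1 := ⟨p / 2, by omega⟩
          rw [hN, hk, show (2 * k + 1) ^ 2 + 1 = 4 * (k ^ 2 + k) + 2 by ring] at h4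
          omega
        have hfac := Nat.ordProj_mul_ordCompl_eq_self N 5
        set M := N / 5 ^ N.factorization 5 with hM
        have h5M : ¬ 5 ∣ M := Nat.not_dvd_ordCompl (by norm_num) hN0
        have hMN : M ∣ N := Nat.ordCompl_dvd N 5
        have hM0 : M ≠ 0 := fun h => hN0 (by rw [h] at hMN; exact zero_dvd_iff.1 hMN)
        have hM2 : ∃ c, M = 2 ^ c := by
          refine ⟨_, Nat.eq_prime_pow_of_unique_prime_dvd hM0 fun {d} hd hdM => ?_⟩
          rcases hdiv d hd (hdM.trans hMN) with h | h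
          · exact h
          · exact absurd (h ▸ hdM) h5M
        obtain ⟨c, hc⟩ := hM2
        have hc1 : c < 2 := by
          by_contra hcon
          apply hN4
          refine (?_ : 4 ∣ M).trans hMN
          rw [hc]
          exact pow_dvd_pow 2 (show 2 ≤ c by omega)
        have hMle : M ≤ 2 := by
          rw [hc]
          interval_cases c <;> norm_num
        have hNge : 50 ≤ N := by
          rw [hN]
          nlinarith
        have hb2 : 2 ≤ N.factorization 5 := by
          by_contra hcon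
          have h1 : 5 ^ N.factorization 5 ≤ 5 ^ 1 := Nat.pow_le_pow_right (by norm_num) (by omega)
          have h3 : 5 ^ N.factorization 5 * M ≤ 5 ^ 1 * 2 := Nat.mul_le_mul h1 hMle
          omega
        have h5 : 5 ∣ N := (Nat.Prime.dvd_iff_one_le_factorization (by norm_num) hN0).2 (by omega)
        exact ⟨5, _, rb_of hp le_rfl (prim_four (by norm_num) (by norm_num) h5) rfl
          (Or.inr (Or.inl ⟨rfl, hb2, h7, rfl⟩))⟩
  · obtain ⟨r, hr⟩ := exists_prim (q := p) (e := 4 * a) hp.two_le (by omega) (by omega)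
    have h1 := four_dvd_pred hr
    have h3 : 13 ≤ r := by
      have h4 := hr.prime.two_le
      by_contra hcon
      have h5 := Nat.le_of_dvd (by omega) h1
      have h6 : a = 2 := by omega
      subst h6
      have h7 : r = 9 := by omega
      rw [h7] at hr
      exact absurd hr.prime (by norm_num)
    exact ⟨r, _, rb_of hp ha hr rfl (Or.inl ⟨h3, one_le_fact ha hr⟩)⟩

/-! ### Fixed vectors -/

section fix

variable {F V : Type} [Field F] [AddCommGroup V] [Module F V]

/-- two commuting transformations of order `r` -/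
theorem exists_fixed_of_comm {r : ℕ} (hr : r.Prime) (hrF : (r : F) ≠ 0) {X Y : Module.End F V} (hXY : Commute X Y)
    (hX : X ^ r = 1) (hY : Y ^ r = 1) {v₀ : V} (hv₀ : v₀ ≠ 0) :
    (∃ i : ℕ, ∃ v : V, v ≠ 0 ∧ (X * Y ^ i) v = v) ∨ ∃ v : V, v ≠ 0 ∧ Y v = v := by
  by_contra hcon
  rw [not_or] at hcon
  obtain ⟨h1, h2⟩ := hcon
  push Not at h1 h2
  -- a transformation of order `r` without fixed vectors
  have key : ∀ Z : Module.End F V, Z ^ r = 1 → (∀ v, Z v = v → v = 0) → ∑ k ∈ Finset.range r, Z ^ k = 0 := by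
    intro Z hZ hfr
    apply LinearMap.ext
    intro v
    rw [LinearMap.zero_apply]
    apply hfr
    have h3 : (Z - 1) * ∑ k ∈ Finset.range r, Z ^ k = Z ^ r - 1 := mul_geom_sum Z r
    rw [hZ, sub_self] at h3
    have h4 := congrArg (fun f : Module.End F V => f v) h3
    exact sub_eq_zero.1 h4
  have hXYr : ∀ i, (X * Y ^ i) ^ r = 1 := by
    intro i
    rw [(hXY.pow_right i).mul_pow, hX, ← pow_mul, mul_comm, pow_mul, hY, one_pow, one_mul]
  have e1 : ∀ i, ∑ k ∈ Finset.range r, (X * Y ^ i) ^ k = 0 := fun i =>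
    key _ (hXYr i) fun v hv => by
      by_contra h0
      exact h1 i v h0 hv
  -- powers of `Y`
  have e2 : ∀ k, 0 < k → k < r → ∑ i ∈ Finset.range r, (Y ^ k) ^ i = 0 := by
    intro k hk hkr
    refine key _ (by rw [← pow_mul, mul_comm, pow_mul, hY, one_pow]) fun v hv => ?_
    by_contra h0
    apply h2 v h0
    have hco : Nat.Coprime k r := (Nat.coprime_comm.1 ((Nat.Prime.coprime_iff_not_dvd hr).2 fun hd => by
      have := Nat.le_of_dvd hk hd
      omega))
    obtain ⟨j, hj1, hj2⟩ := Nat.chineseRemainder hco 0 1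
    have h3 : Y ^ j = Y := by
      have h4 := pow_eq_pow_of_modEq hj2 hY
      rwa [pow_one] at h4
    obtain ⟨l, hl⟩ := (Nat.modEq_zero_iff_dvd.1 hj1)
    have h5 : ∀ l : ℕ, ((Y ^ k) ^ l) v = v := by
      intro l
      induction l with
      | zero => rfl
      | succ l ih => rw [pow_succ', Module.End.mul_apply, ih, hv]
    rw [← h3, hl, pow_mul]
    exact h5 l
  have h3 : ∑ i ∈ Finset.range r, ∑ k ∈ Finset.range r, (X * Y ^ i) ^ k = 0 :=
    Finset.sum_eq_zero fun i _ => e1 i
  rw [Finset.sum_comm] at h3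
  have h4 : ∀ k ∈ Finset.range r, ∑ i ∈ Finset.range r, (X * Y ^ i) ^ k =
      if k = 0 then (r : Module.End F V) else 0 := by
    intro k hk
    split_ifs with h0
    · subst h0
      simp
    · have h5 : ∀ i ∈ Finset.range r, (X * Y ^ i) ^ k = X ^ k * (Y ^ k) ^ i := by
        intro i _
        rw [(hXY.pow_right i).mul_pow, ← pow_mul, ← pow_mul, mul_comm i k]
      rw [Finset.sum_congr rfl h5, ← Finset.mul_sum, e2 k (Nat.pos_of_ne_zero h0) (Finset.mem_range.1 hk), mul_zero]
  rw [Finset.sum_congr rfl h4, Finset.sum_ite_eq' (Finset.range r) 0, if_pos (Finset.mem_range.2 hr.pos)] at h3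
  have h5 := congrArg (fun f : Module.End F V => f v₀) h3
  have h6 : (r : F) • v₀ = 0 := by
    have h7 : (r : Module.End F V) v₀ = r • v₀ := Module.End.natCast_apply r v₀
    rw [Nat.cast_smul_eq_nsmul, ← h7]
    exact h5
  exact hv₀ ((smul_eq_zero.1 h6).resolve_left hrF)

end fix

section

variable {F : Type} [Field F] [Fintype F] {p a r b : ℕ}

theorem lin_mul (g h : GL I8 F) : lin (g * h) = lin g * lin h := by
  rw [lin, Units.val_mul, Matrix.toLin'_mul]
  rfl

theorem lin_pow (g : GL I8 F) (n : ℕ) : lin (g ^ n) = lin g ^ n := by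
  rw [lin, Units.val_pow_eq_pow_val, Matrix.toLin'_pow]

theorem lin_one : lin (1 : GL I8 F) = 1 := by
  rw [lin, Units.val_one, Matrix.toLin'_one]
  rfl

theorem lin_eq_one {g : GL I8 F} (h : lin g = 1) : g = 1 := by
  apply Units.ext
  apply Matrix.toLin'.injective
  rw [Units.val_one, Matrix.toLin'_one]
  exact h

theorem rb_numbers (hF : Nat.card F = p ^ a) (h : RB p a r b) :
    r ∣ Nat.card F ^ 4 - 1 ∧ (∀ i, 1 ≤ i → i < 4 → ¬ r ∣ Nat.card F ^ i - 1) ∧ r.Coprime (Nat.card F) := by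
  have ha := h.ha
  rw [hF]
  refine ⟨?_, fun i h1 h2 => ?_, ?_⟩
  · rw [← pow_mul]
    exact (h.prim.dvd_iff _).2 (by rw [mul_comm])
  · rw [← pow_mul, h.prim.dvd_iff]
    intro hd
    have h3 := Nat.le_of_dvd (by positivity) hd
    have h4 : a * i < 4 * a := by nlinarith
    omega
  · apply Nat.Coprime.pow_right
    exact (Nat.Prime.coprime_iff_not_dvd h.prim.prime).2 h.prim.not_dvd

/-- N2: a noncyclic `r`-group contains an element with `dim [V, g] = 4`. -/
theorem exists_four (hF : Nat.card F = p ^ a) (h : RB p a r b) {P : Subgroup (GL I8 F)}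
    (hPr : IsPGroup r P) (hP : ¬ IsCyclic P) : ∃ g ∈ P, g ^ r = 1 ∧ g ≠ 1 ∧ finrank F (cm (lin g)) = 4 := by
  classical
  have hr := h.prim.prime
  have : Fact r.Prime := ⟨hr⟩
  obtain ⟨n1, n2, n3⟩ := rb_numbers hF h
  have hr2 : r ≠ 2 := by
    have := h.cases
    omega
  have hrF : (r : F) ≠ 0 := H383.Cov.coprime_ne_zero n3
  obtain ⟨A, -, ⟨hAc, hAr⟩, hAcard⟩ := S0126.result (R := P) hr2 hPr hP
  -- two generators
  have hA1 : ∃ y ∈ A, y ≠ 1 := by
    by_contra hcon
    push Not at hcon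
    have h1 : A = ⊥ := (Subgroup.eq_bot_iff_forall A).2 hcon
    rw [h1, Subgroup.card_bot] at hAcard
    have h2 : 1 < r ^ 2 := Nat.one_lt_pow two_ne_zero hr.one_lt
    omega
  obtain ⟨y, hyA, hy1⟩ := hA1
  have hyr : y ^ r = 1 := hAr y hyA
  have hoy : orderOf y = r := orderOf_eq_prime hyr hy1
  have hA2 : ∃ x ∈ A, x ∉ Subgroup.zpowers y := by
    by_contra hcon
    push Not at hcon
    have h1 : A ≤ Subgroup.zpowers y := hcon
    have h2 := Nat.le_of_dvd (Nat.card_pos) (Subgroup.card_dvd_of_le h1)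
    rw [hAcard, Nat.card_zpowers, hoy] at h2
    have h3 : r < r ^ 2 := by
      rw [pow_two]
      nlinarith [hr.two_le]
    omega
  obtain ⟨x, hxA, hxy⟩ := hA2
  have hxr : x ^ r = 1 := hAr x hxA
  have hcomm : x * y = y * x := by
    have h1 := hAc.is_comm.comm ⟨x, hxA⟩ ⟨y, hyA⟩
    exact congrArg Subtype.val h1
  -- the linear maps
  have hXY : Commute (lin (x : GL I8 F)) (lin (y : GL I8 F)) := by
    have h1 : ((x * y : P) : GL I8 F) = ((y * x : P) : GL I8 F) := by rw [hcomm]
    rw [Subgroup.coe_mul, Subgroup.coe_mul] at h1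
    change lin (x : GL I8 F) * lin (y : GL I8 F) = lin (y : GL I8 F) * lin (x : GL I8 F)
    rw [← lin_mul, ← lin_mul, h1]
  have hXr : lin (x : GL I8 F) ^ r = 1 := by
    rw [← lin_pow, ← Subgroup.coe_pow, hxr, Subgroup.coe_one, lin_one]
  have hYr : lin (y : GL I8 F) ^ r = 1 := by
    rw [← lin_pow, ← Subgroup.coe_pow, hyr, Subgroup.coe_one, lin_one]
  -- an element with fixed vectors
  have hex : ∃ g : P, g ^ r = 1 ∧ g ≠ 1 ∧ ∃ v : I8 → F, v ≠ 0 ∧ lin (g : GL I8 F) v = v := by
    have hv₀ : (fun _ => 1 : I8 → F) ≠ 0 := fun h0 => one_ne_zero (congrFun h0 (Sum.inl 0))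
    rcases exists_fixed_of_comm hr hrF hXY hXr hYr hv₀ with ⟨i, v, hv, hf⟩ | ⟨v, hv, hf⟩
    · refine ⟨x * y ^ i, ?_, ?_, v, hv, ?_⟩
      · have hc : Commute x (y ^ i) := Commute.pow_right hcomm i
        rw [hc.mul_pow, hxr, ← pow_mul, mul_comm, pow_mul, hyr, one_pow, one_mul]
      · intro h1
        apply hxy
        have h2 : x = (y ^ i)⁻¹ := eq_inv_of_mul_eq_one_left h1
        rw [h2]
        exact Subgroup.inv_mem _ (Subgroup.pow_mem _ (Subgroup.mem_zpowers y) i)
      · rw [Subgroup.coe_mul, Subgroup.coe_pow, lin_mul, lin_pow]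
        exact hf
    · exact ⟨y, hyr, hy1, v, hv, hf⟩
  obtain ⟨g, hgr, hg1, v, hv, hf⟩ := hex
  have hGr : lin (g : GL I8 F) ^ r = 1 := by
    rw [← lin_pow, ← Subgroup.coe_pow, hgr, Subgroup.coe_one, lin_one]
  refine ⟨g, g.2, by rw [← Subgroup.coe_pow, hgr, Subgroup.coe_one], fun h1 => hg1 (Subtype.ext h1), ?_⟩
  -- the dimension
  have hd4 : 4 ∣ finrank F (cm (lin (g : GL I8 F))) := by
    refine H383.Cov.dvd_of_free (x := lin (g : GL I8 F)) hr hGr (by norm_num) n1 n2 ?_ ?_
    · rintro _ ⟨u, rfl⟩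
      refine ⟨lin (g : GL I8 F) u, ?_⟩
      change lin (g : GL I8 F) (lin (g : GL I8 F) u) - lin (g : GL I8 F) u = lin (g : GL I8 F) (lin (g : GL I8 F) u - u)
      rw [map_sub]
    · rintro w ⟨u, hu⟩ hw
      exact H383.Cov.eq_zero_of_fix hGr n3 (v := u) hu.symm hw
  have hrn : finrank F (cm (lin (g : GL I8 F))) + finrank F (fx (lin (g : GL I8 F))) = 8 := by
    have h1 := LinearMap.finrank_range_add_finrank_ker (lin (g : GL I8 F) - 1)
    rw [Module.finrank_fintype_fun_eq_card] at h1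
    exact h1
  have hfx : 0 < finrank F (fx (lin (g : GL I8 F))) := by
    apply Nat.pos_of_ne_zero
    intro h0
    have h1 : fx (lin (g : GL I8 F)) = ⊥ := Submodule.finrank_eq_zero.1 h0
    have h2 : v ∈ fx (lin (g : GL I8 F)) := by
      rw [H951.mem_fx]
      exact hf
    rw [h1] at h2
    exact hv ((Submodule.mem_bot F).1 h2)
  have hcm : 0 < finrank F (cm (lin (g : GL I8 F))) := by
    apply Nat.pos_of_ne_zero
    intro h0
    have h1 : cm (lin (g : GL I8 F)) = ⊥ := Submodule.finrank_eq_zero.1 h0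
    have h2 : lin (g : GL I8 F) - 1 = 0 := LinearMap.range_eq_bot.1 h1
    exact hg1 (Subtype.ext (lin_eq_one (sub_eq_zero.1 h2)))
  omega

end

end Cfsg.Agent.H989.Cov.O8
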