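import Cfsg.Agent.H989.Cov.Tools

/-!
# S2499, `Ω^±_12(2)`: elements with two blocks, the second one of dimension two (helper989)

* `pair_plane` : invariant planes of `x₁ × x₂`; `pl_of_pair`, `mi_of_pair`;
* `blk_of_pair`, `blk_of_mul` : the block of a field element;
* `Zd` : an element with a power of order 31 and a kernel of dimension 5.
-/

set_option autoImplicit false
set_option linter.unusedSectionVars false
set_option linter.style.haveILetI false

namespace Cfsg.Agent.H989.Cov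

open Module Cfsg Cfsg.Geo QuadraticMap
open Cfsg.Agent.LieClassical.OrthCore Cfsg.Agent.LieClassical.OrthForms
open Cfsg.Agent.H182.Sign
open Cfsg.Agent.H383.Cov
open Cfsg.Agent.H689 (Ppd)
open scoped MatrixGroups Matrix

/-! ### Planes -/

section plane

variable {F V₁ V₂ : Type*} [Field F] [AddCommGroup V₁] [Module F V₁] [FiniteDimensional F V₁]
  [AddCommGroup V₂] [Module F V₂] [FiniteDimensional F V₂]

/-- invariant planes of a pair -/
theorem pair_plane {x₁ : Module.End F V₁} {x₂ : Module.End F V₂} {M N : ℕ} (h₁ : x₁ ^ M = 1) (h₂ : x₂ ^ N = 1)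
    (hc : M.Coprime N) (hf : ∀ v, x₁ v = v → v = 0)
    (d₁ : ∀ W : Submodule F V₁, (∀ w ∈ W, x₁ w ∈ W) → finrank F W ≤ 2 → finrank F W = 0) (hd : finrank F V₂ = 2)
    {W : Submodule F (V₁ × V₂)} (hW : ∀ w ∈ W, (x₁.prodMap x₂ : Module.End F (V₁ × V₂)) w ∈ W)
    (h2 : finrank F W = 2) : (∀ v : V₂, ((0, v) : V₁ × V₂) ∈ W) ∧ ∀ w ∈ W, w.1 = 0 := by
  obtain ⟨j, hj1, hj2⟩ := exists_pow_left h₁ h₂ hc
  have hWj : ∀ w ∈ W, (x₁ w.1, w.2) ∈ W := by
    intro w hw
    have h := inv_pow hW j w hw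
    rw [pair_pow, hj1, hj2] at h
    exact h
  have h3 := split_inv hf hWj
  have h4 : finrank F (W.comap (LinearMap.inl F V₁ V₂)) = 0 :=
    d₁ _ (fun w hw => hWj _ hw) (by omega)
  have h5 : W.comap (LinearMap.inr F V₁ V₂) = ⊤ := by
    apply Submodule.eq_top_of_finrank_eq
    omega
  have h6 : ∀ v : V₂, ((0, v) : V₁ × V₂) ∈ W := by
    intro v
    have h7 : v ∈ W.comap (LinearMap.inr F V₁ V₂) := by rw [h5]; trivial
    exact h7
  refine ⟨h6, fun w hw => ?_⟩
  have h7 := W.sub_mem hw (h6 w.2)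
  have h8 : w - (0, w.2) = (w.1, 0) := Prod.ext (sub_zero _) (sub_self _)
  rw [h8] at h7
  have h9 : w.1 ∈ W.comap (LinearMap.inl F V₁ V₂) := h7
  rw [Submodule.finrank_eq_zero.1 h4] at h9
  exact (Submodule.mem_bot F).1 h9

end plane

section

variable {ι : Type} [Fintype ι] [DecidableEq ι] {F : Type} [Field F] [Finite F]

/-- an anisotropic plane -/
theorem aniso_of_sg {V : Type} [AddCommGroup V] [Module F V] [Finite V] {Q : QuadraticForm F V} (h : Sg Q 1 (-1))
    (v : V) (hv : Q v = 0) : v = 0 := by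
  obtain ⟨b, hb⟩ := Cfsg.Agent.H182.Sign.exists_aniso F
  obtain ⟨e, he⟩ := Sg.exists_equiv h (sg_minusForm (F := F) 0 hb)
  have h1 := he v
  rw [hv, coe_minusForm, quadFormMinus_apply] at h1
  simp only [Finset.univ_eq_empty, Finset.sum_empty, zero_add] at h1
  obtain ⟨h2, h3⟩ := hb _ _ h1
  have h4 : e v = 0 := by
    funext i
    rcases i with i | i
    · rcases i with i | i <;> exact i.elim0
    · fin_cases i
      · exact h2
      · exact h3
  exact (LinearEquiv.map_eq_zero_iff _).1 h4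

theorem map_inv' {V : Type} [AddCommGroup V] [Module F V] {X : GL ι F} {x : Module.End F V} {e : (ι → F) ≃ₗ[F] V}
    (he : ∀ v, e ((X : Matrix ι ι F) *ᵥ v) = x (e v)) {W : Submodule F (ι → F)}
    (hW : ∀ w ∈ W, (X : Matrix ι ι F) *ᵥ w ∈ W) : ∀ w ∈ W.map (e : (ι → F) →ₗ[F] V), x w ∈ W.map (e : (ι → F) →ₗ[F] V) := by
  rintro _ ⟨w, hw, rfl⟩
  exact ⟨_, hW w hw, he w⟩

variable {V₁ V₂ : Type} [AddCommGroup V₁] [Module F V₁] [Finite V₁] [AddCommGroup V₂] [Module F V₂] [Finite V₂]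

theorem mi_of_pair {Q : (ι → F) → F} {Q₁ : QuadraticForm F V₁} {Q₂ : QuadraticForm F V₂} {X : GL ι F}
    {x₁ : Module.End F V₁} {x₂ : Module.End F V₂} {e : (ι → F) ≃ₗ[F] (V₁ × V₂)}
    (he : ∀ v, e ((X : Matrix ι ι F) *ᵥ v) = (x₁.prodMap x₂ : Module.End F (V₁ × V₂)) (e v))
    (heq : ∀ v, prodForm Q₁ Q₂ (e v) = Q v) {M N : ℕ} (h₁ : x₁ ^ M = 1) (h₂ : x₂ ^ N = 1)
    (hc : M.Coprime N) (hf : ∀ v, x₁ v = v → v = 0)
    (d₁ : ∀ W : Submodule F V₁, (∀ w ∈ W, x₁ w ∈ W) → finrank F W ≤ 2 → finrank F W = 0) (hs : Sg Q₂ 1 (-1)) :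
    Mi Q X := by
  have hf1 : FiniteDimensional F V₁ := Module.Finite.of_finite
  have hf2 : FiniteDimensional F V₂ := Module.Finite.of_finite
  intro W hW h2 w hw hq
  obtain ⟨-, h4⟩ := pair_plane h₁ h₂ hc hf d₁ hs.dim (map_inv' he hW) (by rw [LinearEquiv.finrank_map_eq, h2])
  have h5 := h4 (e w) ⟨w, hw, rfl⟩
  have h6 := heq w
  rw [hq, prodForm_apply, h5, QuadraticMap.map_zero, zero_add] at h6
  have h7 := aniso_of_sg hs _ h6
  exact (LinearEquiv.map_eq_zero_iff _).1 (Prod.ext h5 h7 : e w = 0)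

theorem pl_of_pair {Q : (ι → F) → F} {Q₁ : QuadraticForm F V₁} {Q₂ : QuadraticForm F V₂} {X : GL ι F}
    {x₁ : Module.End F V₁} {x₂ : Module.End F V₂} {e : (ι → F) ≃ₗ[F] (V₁ × V₂)}
    (he : ∀ v, e ((X : Matrix ι ι F) *ᵥ v) = (x₁.prodMap x₂ : Module.End F (V₁ × V₂)) (e v))
    (heq : ∀ v, prodForm Q₁ Q₂ (e v) = Q v) {M N : ℕ} (h₁ : x₁ ^ M = 1) (h₂ : x₂ ^ N = 1)
    (hc : M.Coprime N) (hf : ∀ v, x₁ v = v → v = 0)
    (d₁ : ∀ W : Submodule F V₁, (∀ w ∈ W, x₁ w ∈ W) → finrank F W ≤ 2 → finrank F W = 0) (hd : finrank F V₂ = 2)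
    {v₂ : V₂} (hv0 : v₂ ≠ 0) (hv : Q₂ v₂ = 0) : Pl Q X := by
  have hf1 : FiniteDimensional F V₁ := Module.Finite.of_finite
  have hf2 : FiniteDimensional F V₂ := Module.Finite.of_finite
  intro W hW h2
  obtain ⟨h3, -⟩ := pair_plane h₁ h₂ hc hf d₁ hd (map_inv' he hW) (by rw [LinearEquiv.finrank_map_eq, h2])
  obtain ⟨w, hw, hwe⟩ := h3 v₂
  have hwe' : e w = (0, v₂) := hwe
  refine ⟨w, hw, ?_, ?_⟩
  · rintro rfl
    rw [map_zero] at hwe'
    exact hv0 (congrArg Prod.snd hwe').symm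
  · rw [← heq, hwe', prodForm_apply, QuadraticMap.map_zero, zero_add]
    exact hv

/-! ### Blocks -/

/-- the numerical conditions on the order `M` of a block of dimension `k` -/
def Bn (q k M : ℕ) : Prop := M ≠ 1 ∧ M.Coprime q ∧ ∀ i, 1 ≤ i → i < k → M.Coprime (q ^ i - 1)

variable {L : Type} [Field L] [Algebra F L] [Finite L]

theorem blk_of_pair {k M : ℕ} (hn : Bn (Nat.card F) k M) {u : L} (hu : orderOf u = M)
    (hL : finrank F L = k) {X : GL ι F} {V : Type} [AddCommGroup V] [Module F V] [Finite V]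
    (hX : Sim X ((LinearMap.mulLeft F u : Module.End F L).prodMap (1 : Module.End F V))) :
    orderOf X = M ∧ Blk k X := by
  have hfL : FiniteDimensional F L := Module.Finite.of_finite
  have hfV : FiniteDimensional F V := Module.Finite.of_finite
  have hoX : orderOf X = M := by
    rw [hX.orderOf_eq, ← hu, ← orderOf_mulLeft (F := F) u]
    apply Nat.dvd_antisymm
    · apply orderOf_dvd_of_pow_eq_one
      rw [pair_pow, pow_orderOf_eq_one, one_pow]
      rfl
    · apply orderOf_dvd_of_pow_eq_one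
      have h1 := pow_orderOf_eq_one ((LinearMap.mulLeft F u : Module.End F L).prodMap (1 : Module.End F V))
      rw [pair_pow] at h1
      apply LinearMap.ext
      intro v
      exact congrArg (fun f : Module.End F (L × V) => (f (v, 0)).1) h1
  refine ⟨hoX, ?_, ?_, ?_⟩
  · rw [hoX]; exact hn.2.1
  · intro i hi hk
    rw [hoX]
    exact hn.2.2 i hi hk
  · rw [hX.rk, range_pair (mulLeft_free (ne_one_of_order hu hn.1)), hL]

theorem blk_of_mul {k M : ℕ} (hn : Bn (Nat.card F) k M) {u : L} (hu : orderOf u = M)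
    (hL : finrank F L = k) {X : GL ι F} (hX : Sim X (LinearMap.mulLeft F u : Module.End F L)) :
    orderOf X = M ∧ Blk k X := by
  have hfL : FiniteDimensional F L := Module.Finite.of_finite
  have hoX : orderOf X = M := by rw [hX.orderOf_eq, ← hu, orderOf_mulLeft (F := F) u]
  refine ⟨hoX, ?_, ?_, ?_⟩
  · rw [hoX]; exact hn.2.1
  · intro i hi hk
    rw [hoX]
    exact hn.2.2 i hi hk
  · rw [hX.rk]
    have hinj : Function.Injective ⇑((LinearMap.mulLeft F u : Module.End F L) - 1) := by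
      rw [← LinearMap.ker_eq_bot, LinearMap.ker_eq_bot']
      intro v hv
      exact mulLeft_free (F := F) (ne_one_of_order hu hn.1) v (sub_eq_zero.1 hv)
    rw [LinearMap.finrank_range_of_inj hinj, hL]

/-- invariant subspaces of a multiplication -/
theorem mul_case {w : L} {d M : ℕ} (hu : orderOf w = M) (hd : finrank F L = d) (h0 : w ≠ 0)
    (h : ∀ j, 1 ≤ j → j < d → ¬ M ∣ Nat.card F ^ j - 1) {W : Submodule F L}
    (hW : ∀ v ∈ W, LinearMap.mulLeft F w v ∈ W) : finrank F W = 0 ∨ finrank F W = d := by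
  rcases irr_mul (F := F) (ζ := w) (by rw [hd, hu]; exact h) h0 hW with rfl | rfl
  · left; exact finrank_bot F L
  · right; rw [finrank_top]; exact hd

/-! ### The blocks `pos 5` -/

/-- a power of order 31 and a polynomial with a kernel of dimension 5 -/
def Zd (z : GL ι F) : Prop :=
  ∃ j : ℕ, orderOf (z ^ j) = 31 ∧ ∃ P : Polynomial F,
    finrank F (LinearMap.ker (Matrix.toLin' (Polynomial.aeval ((z ^ j : GL ι F) : Matrix ι ι F) P))) = 5

theorem Zd.conj {z : GL ι F} (h : Zd z) (g : GL ι F) : Zd (g * z * g⁻¹) := by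
  obtain ⟨j, h1, P, h2⟩ := h
  refine ⟨j, ?_, P, ?_⟩
  · rw [conj_pow, orderOf_conj, h1]
  · rw [conj_pow]
    have h : Sim (g * z ^ j * g⁻¹) (Matrix.toLin' ((z ^ j : GL ι F) : Matrix ι ι F)) := by
      refine ⟨(eqv g).symm, fun v => ?_⟩
      rw [eqv_symm_apply, eqv_symm_apply, Matrix.toLin'_apply, Units.val_mul, Units.val_mul, Matrix.mulVec_mulVec,
        Matrix.mulVec_mulVec, ← mul_assoc, ← mul_assoc, ← Units.val_mul, inv_mul_cancel, Units.val_one, one_mul]
    have h' : Sim (z ^ j) (Matrix.toLin' ((z ^ j : GL ι F) : Matrix ι ι F)) := ⟨LinearEquiv.refl F _, fun v => rfl⟩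
    rw [h.ker, ← h'.ker, h2]

theorem zd_of_pair {K : Type} [Field K] [Algebra F K] [Finite K] {u : K} (hu : orderOf u = 31) (h0 : u ≠ 0)
    (hK : finrank F K = 5) {X : GL ι F} {V : Type} [AddCommGroup V] [Module F V] [Finite V]
    (hX : Sim X ((dg F u).prodMap (1 : Module.End F V))) :
    orderOf X = 31 ∧ finrank F (LinearMap.ker (Matrix.toLin' (Polynomial.aeval (X : Matrix ι ι F) (minpoly F u)))) = 5 := by
  have hfK : FiniteDimensional F K := Module.Finite.of_finite
  have hfV : FiniteDimensional F V := Module.Finite.of_finite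
  have hu1 : u ≠ 1 := ne_one_of_order hu (by norm_num)
  constructor
  · rw [hX.orderOf_eq]
    apply Nat.dvd_antisymm
    · apply orderOf_dvd_of_pow_eq_one
      have hFin : Finite F := inferInstance
      rw [pair_pow, one_pow, dg_pow, ← hu, pow_orderOf_eq_one, dg_one]
      rfl
    · rw [← hu]
      apply orderOf_dvd_of_pow_eq_one
      have h1 := pow_orderOf_eq_one ((dg F u).prodMap (1 : Module.End F V))
      rw [pair_pow, dg_pow] at h1
      have h2 := congrArg (fun f : Module.End F ((K × K) × V) => (f ((1, 0), 0)).1.1) h1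
      have h3 : u ^ orderOf ((dg F u).prodMap (1 : Module.End F V)) * (1 : K) = 1 := h2
      rwa [mul_one] at h3
  · rw [hX.ker, aeval_pair, ker_pair, ker_dg_minpoly (by rw [hK]; decide) h0 (sq_ne_one hu (by decide) (by norm_num)), hK]
    have h1 : Polynomial.aeval (1 : Module.End F V) (minpoly F u) =
        (Polynomial.eval 1 (minpoly F u)) • (1 : Module.End F V) := by
      have h2 : (1 : Module.End F V) = algebraMap F (Module.End F V) 1 := (map_one _).symm
      rw [h2, Polynomial.aeval_algebraMap_apply, Polynomial.coe_aeval_eq_eval, map_one, Algebra.algebraMap_eq_smul_one]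
    have h2 : Polynomial.eval 1 (minpoly F u) ≠ 0 := by
      intro h3
      have h4 : Polynomial.aeval (algebraMap F K 1) (minpoly F u) = 0 := by
        rw [Polynomial.aeval_algebraMap_apply, Polynomial.coe_aeval_eq_eval, h3, map_zero]
      rw [map_one] at h4
      have hint : IsIntegral F u := IsIntegral.of_finite F u
      have h5 := minpoly.eq_of_irreducible_of_monic (minpoly.irreducible hint) h4 (minpoly.monic hint)
      have h6 : minpoly F (1 : K) = Polynomial.X - 1 := minpoly.one _ _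
      have h7 := minpoly.aeval F u
      rw [h5, h6, map_sub, Polynomial.aeval_X, map_one] at h7
      exact hu1 (sub_eq_zero.1 h7)
    have h3 : finrank F (LinearMap.ker (Polynomial.aeval (1 : Module.End F V) (minpoly F u))) = 0 := by
      rw [h1, Submodule.finrank_eq_zero, LinearMap.ker_eq_bot']
      intro v hv
      rw [LinearMap.smul_apply, Module.End.one_apply] at hv
      exact (smul_eq_zero.1 hv).resolve_left h2
    rw [h3]

theorem ppd_31 : Ppd 2 5 31 := by
  refine ⟨by norm_num, fun m => ?_, by norm_num, by norm_num⟩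
  have h1 : ∀ a b : ℕ, 2 ^ (5 * a + b) % 31 = 2 ^ b % 31 := by
    intro a b
    rw [pow_add, pow_mul, Nat.mul_mod, Nat.pow_mod]
    norm_num
  have h2 : 2 ^ m % 31 = 2 ^ (m % 5) % 31 := by
    conv_lhs => rw [← Nat.div_add_mod m 5]
    exact h1 _ _
  have hpos : 0 < 2 ^ m := pow_pos (by norm_num) _
  have hlt : m % 5 < 5 := Nat.mod_lt _ (by norm_num)
  constructor
  · intro h
    have h3 : 2 ^ m % 31 = 1 := by omega
    rw [h2] at h3
    apply Nat.dvd_of_mod_eq_zero
    interval_cases h4 : m % 5 <;> simp_all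
  · intro h
    have h3 : m % 5 = 0 := Nat.mod_eq_zero_of_dvd h
    rw [h3] at h2
    norm_num at h2
    omega

end

end Cfsg.Agent.H989.Cov
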