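import Cfsg.Agent.H989.Cov.El

/-!
# S2499, `Ω^±_12(2)`: the elements (helper989)

* minus type: `neg 6` (order 13), `neg 5 + 1` (order 33), `pos 5 + neg 1` (order 93);
* plus type: `neg 5 + neg 1` (order 33), `neg 4 + neg 2` (order 85), `pos 5 + 1` (order 31).
-/

set_option autoImplicit false
set_option linter.unusedSectionVars false
set_option linter.style.haveILetI false

namespace Cfsg.Agent.H989.Cov

open Module Cfsg Cfsg.Geo QuadraticMap
open Cfsg.Agent.LieClassical.OrthCore Cfsg.Agent.LieClassical.OrthForms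
open Cfsg.Agent.H182.Sign
open Cfsg.Agent.H383.Cov
open Cfsg.Agent.H689 (Ppd)
open scoped MatrixGroups Matrix

theorem bn_13 : Bn 2 12 13 := by
  refine ⟨by norm_num, by norm_num, fun i h1 h2 => ?_⟩
  interval_cases i <;> norm_num

theorem bn_11 : Bn 2 10 11 := by
  refine ⟨by norm_num, by norm_num, fun i h1 h2 => ?_⟩
  interval_cases i <;> norm_num

theorem bn_17 : Bn 2 8 17 := by
  refine ⟨by norm_num, by norm_num, fun i h1 h2 => ?_⟩
  interval_cases i <;> norm_num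

section

variable {F : Type} [Field F] [Fintype F]

/-- a non-zero singular vector of the hyperbolic plane -/
theorem exists_sing : ∃ v : Fin 1 ⊕ Fin 1 → F, v ≠ 0 ∧ plusForm 1 F v = 0 := by
  refine ⟨Pi.single (Sum.inl 0) 1, ?_, ?_⟩
  · intro h
    have := congrFun h (Sum.inl 0)
    simp at this
  · rw [coe_plusForm]
    simp [quadFormPlus]

variable (hF : Fintype.card F = 2)
include hF

theorem not_dvd_of (M d : ℕ) (h : ∀ j, 1 ≤ j → j < d → ¬ M ∣ 2 ^ j - 1) :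
    ∀ j, 1 ≤ j → j < d → ¬ M ∣ Nat.card F ^ j - 1 := by
  rw [Nat.card_eq_fintype_card, hF]
  exact h

theorem bn_of {k M : ℕ} (h : Bn 2 k M) : Bn (Nat.card F) k M := by
  rw [Nat.card_eq_fintype_card, hF]
  exact h

section minus

variable {Q : QuadraticForm F (Fin 12 → F)} (hQ : Sg Q 6 (-1))
include hQ

/-- `neg 6` -/
theorem mA : ∃ A : GL (Fin 12) F, A ∈ omegaGL ⇑Q ∧ orderOf A = 13 ∧ Blk 12 A ∧ Dims A {0, 12} := by
  obtain ⟨L, _, _, _, Q', u, s1, s2, s3, s4, s5⟩ := exists_negN (F := F) (k := 6) (N := 13) (by norm_num)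
    (by rw [hF]; norm_num)
  have hfL : FiniteDimensional F L := Module.Finite.of_finite
  obtain ⟨A, hA, e, he, -⟩ := exists_el hQ (by rw [Fintype.card_fin]; norm_num) s1
    (x := LinearMap.mulLeft F u) (M := 13) s5 (by decide) (by rw [mulLeft_pow, mulLeft_eq_one, ← s3, pow_orderOf_eq_one])
  have hsim : Sim A (LinearMap.mulLeft F u) := ⟨e, he⟩
  obtain ⟨h1, h2⟩ := blk_of_mul (bn_of hF bn_13) s3 s2 hsim
  refine ⟨A, hA, h1, h2, hsim.dims fun W hW => ?_⟩
  exact mul_case s3 s2 s4 (not_dvd_of hF _ _ (by intro j h1 h2; interval_cases j <;> norm_num)) hW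

/-- `neg 5 + 1` -/
theorem mB : ∃ B : GL (Fin 12) F, B ∈ omegaGL ⇑Q ∧ orderOf B = 33 ∧ (orderOf (B ^ 3) = 11 ∧ Blk 10 (B ^ 3)) ∧
    Dims B {d | d ≤ 2 ∨ 10 ≤ d} ∧ Pl ⇑Q B := by
  obtain ⟨L, _, _, _, Q', u, s1, s2, s3, s4, s5⟩ := exists_negN (F := F) (k := 5) (N := 33) (by norm_num)
    (by rw [hF]; norm_num)
  have hfL : FiniteDimensional F L := Module.Finite.of_finite
  have hs := s1.prod (sg_plusForm (F := F) 1)
  have p1 : (LinearMap.mulLeft F u : Module.End F L) ^ 33 = 1 := by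
    rw [mulLeft_pow, mulLeft_eq_one, ← s3, pow_orderOf_eq_one]
  have p2 : (1 : Module.End F (Fin 1 ⊕ Fin 1 → F)) ^ 1 = 1 := one_pow _
  obtain ⟨B, hB, e, he, heq⟩ := exists_el hQ (by rw [Fintype.card_fin]; norm_num) hs
    (x := (LinearMap.mulLeft F u).prodMap 1) (M := 33)
    (by
      intro v
      rw [prodForm_apply, prodForm_apply]
      change Q' (u * v.1) + plusForm 1 F v.2 = _
      rw [s5])
    (by decide)
    (by
      rw [pair_pow, p1, one_pow]
      rfl)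
  have hsim : Sim B ((LinearMap.mulLeft F u : Module.End F L).prodMap (1 : Module.End F (Fin 1 ⊕ Fin 1 → F))) := ⟨e, he⟩
  have hsim3 : Sim (B ^ 3) ((LinearMap.mulLeft F (u ^ 3) : Module.End F L).prodMap
      (1 : Module.End F (Fin 1 ⊕ Fin 1 → F))) := by
    have h := hsim.pow 3
    rw [pair_pow, mulLeft_pow, one_pow] at h
    exact h
  have hu3 : orderOf (u ^ 3) = 11 := by
    rw [orderOf_pow_of_dvd (by norm_num) (by rw [s3]; norm_num), s3]
  have hu1 : u ≠ 1 := ne_one_of_order s3 (by norm_num)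
  have hd2 : finrank F (Fin 1 ⊕ Fin 1 → F) = 2 := by
    rw [Module.finrank_fintype_fun_eq_card]
    rfl
  have hcase : ∀ W : Submodule F L, (∀ v ∈ W, LinearMap.mulLeft F u v ∈ W) → finrank F W = 0 ∨ finrank F W = 10 :=
    fun W hW => mul_case s3 s2 s4 (not_dvd_of hF _ _ (by intro j h1 h2; interval_cases j <;> norm_num)) hW
  refine ⟨B, hB, ?_, blk_of_pair (bn_of hF bn_11) hu3 s2 hsim3, hsim.dims fun W hW => ?_, ?_⟩
  · rw [hsim.orderOf_eq]
    apply Nat.dvd_antisymm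
    · apply orderOf_dvd_of_pow_eq_one
      rw [pair_pow, p1, one_pow]
      rfl
    · rw [← s3]
      apply orderOf_dvd_of_pow_eq_one
      have h1 := pow_orderOf_eq_one ((LinearMap.mulLeft F u : Module.End F L).prodMap
        (1 : Module.End F (Fin 1 ⊕ Fin 1 → F)))
      rw [pair_pow, mulLeft_pow] at h1
      have h2 := congrArg (fun f : Module.End F (L × (Fin 1 ⊕ Fin 1 → F)) => (f (1, 0)).1) h1
      have h3 : u ^ orderOf ((LinearMap.mulLeft F u : Module.End F L).prodMap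
        (1 : Module.End F (Fin 1 ⊕ Fin 1 → F))) * (1 : L) = 1 := h2
      rwa [mul_one] at h3
  · obtain ⟨s, hs', t, ht', hst⟩ := pair_dims (S₁ := {d | d = 0 ∨ d = 10}) (S₂ := {d | d ≤ 2}) p1 p2
      (Nat.coprime_one_right 33) (mulLeft_free hu1) hcase
      (by
        intro W _
        rw [Set.mem_ofPred_eq, ← hd2]
        exact Submodule.finrank_le W) hW
    rw [hst]
    simp only [Set.mem_ofPred_eq] at hs' ht' ⊢
    omega
  · obtain ⟨v, hv0, hv⟩ := exists_sing (F := F)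
    exact pl_of_pair he heq p1 p2 (Nat.coprime_one_right 33) (mulLeft_free hu1)
      (fun W hW h2 => by rcases hcase W hW with h | h <;> omega) hd2 hv0 hv

/-- `pos 5 + neg 1` -/
theorem mC : ∃ C : GL (Fin 12) F, C ∈ omegaGL ⇑Q ∧ Zd C ∧ Dims C {d | d % 5 = 0 ∨ d % 5 = 2} ∧ Mi ⇑Q C := by
  obtain ⟨K, _, _, _, Q₁, u, s1, s2, s3, s4, s5⟩ := exists_posN (F := F) (k := 5) (N := 31) (by norm_num)
    (by rw [hF]; norm_num)
  obtain ⟨L, _, _, _, Q₂, w, t1, t2, t3, t4, t5⟩ := exists_negN (F := F) (k := 1) (N := 3) (by norm_num)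
    (by rw [hF]; norm_num)
  have hfK : FiniteDimensional F K := Module.Finite.of_finite
  have hfL : FiniteDimensional F L := Module.Finite.of_finite
  have hs := s1.prod t1
  have p1 : (dg F u) ^ 31 = 1 := dg_pow_eq_one s3
  have p2 : (LinearMap.mulLeft F w : Module.End F L) ^ 3 = 1 := by
    rw [mulLeft_pow, mulLeft_eq_one, ← t3, pow_orderOf_eq_one]
  obtain ⟨C, hC, e, he, heq⟩ := exists_el hQ (by rw [Fintype.card_fin]; norm_num) hs
    (x := (dg F u).prodMap (LinearMap.mulLeft F w)) (M := 31 * 3)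
    (by
      intro v
      rw [prodForm_apply, prodForm_apply]
      change Q₁ (dg F u v.1) + Q₂ (w * v.2) = _
      rw [s5 u s4, t5])
    (by decide)
    (by
      rw [pair_pow, pow_mul, p1, one_pow, mul_comm, pow_mul, p2, one_pow]
      rfl)
  have hsim : Sim C ((dg F u).prodMap (LinearMap.mulLeft F w)) := ⟨e, he⟩
  have hu1 : u ≠ 1 := ne_one_of_order s3 (by norm_num)
  have hcase : ∀ W : Submodule F (K × K), (∀ v ∈ W, dg F u v ∈ W) → 5 ∣ finrank F W :=
    fun W hW => dims_dg s3 (by rw [hF]; exact ppd_31) (by norm_num) hW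
  refine ⟨C, hC, ?_, hsim.dims fun W hW => ?_, ?_⟩
  · obtain ⟨j, hj1, hj2⟩ := exists_pow_left p1 p2 (by norm_num)
    have h := hsim.pow j
    rw [pair_pow, hj1, hj2] at h
    obtain ⟨h1, h2⟩ := zd_of_pair s3 s4 s2 h
    exact ⟨j, h1, _, h2⟩
  · obtain ⟨s, hs', t, ht', hst⟩ := pair_dims (S₁ := {d | 5 ∣ d}) (S₂ := {d | d = 0 ∨ d = 2}) p1 p2
      (by norm_num) (dg_free hu1) hcase
      (fun W hW => mul_case t3 t2 t4 (not_dvd_of hF _ _ (by intro j h1 h2; interval_cases j <;> norm_num)) hW) hW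
    rw [hst]
    simp only [Set.mem_ofPred_eq] at hs' ht' ⊢
    omega
  · exact mi_of_pair he heq p1 p2 (by norm_num) (dg_free hu1)
      (fun W hW h2 => by obtain ⟨c, hc⟩ := hcase W hW; omega) t1

end minus

section plus

variable {Q : QuadraticForm F (Fin 12 → F)} (hQ : Sg Q 6 1)
include hQ

/-- `neg a + neg b` -/
theorem pN {a b M N : ℕ} (hab : a + b = 6) (ha : a ≠ 0) (hb : b ≠ 0) (hM : M ∣ 2 ^ a + 1) (hN : N ∣ 2 ^ b + 1)
    (hMo : Odd M) (hNo : Odd N) (hMN : M.Coprime N) (hBn : Bn 2 (2 * a) M)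
    (hM' : ∀ j, 1 ≤ j → j < 2 * a → ¬ M ∣ 2 ^ j - 1) (hN' : ∀ j, 1 ≤ j → j < 2 * b → ¬ N ∣ 2 ^ j - 1) :
    ∃ A : GL (Fin 12) F, A ∈ omegaGL ⇑Q ∧ (∃ j, orderOf (A ^ j) = M ∧ Blk (2 * a) (A ^ j)) ∧
      Dims A {d | d = 0 ∨ d = 2 * a ∨ d = 2 * b ∨ d = 12} ∧ (b = 1 → Mi ⇑Q A) := by
  obtain ⟨L, _, _, _, Q₁, u, s1, s2, s3, s4, s5⟩ := exists_negN (F := F) (k := a) (N := M) ha
    (by rw [hF]; exact hM)
  obtain ⟨L', _, _, _, Q₂, w, t1, t2, t3, t4, t5⟩ := exists_negN (F := F) (k := b) (N := N) hb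
    (by rw [hF]; exact hN)
  have hfL : FiniteDimensional F L := Module.Finite.of_finite
  have hfL' : FiniteDimensional F L' := Module.Finite.of_finite
  have hs := s1.prod t1
  rw [hab, show (-1 : ℤ) * -1 = 1 by norm_num] at hs
  have p1 : (LinearMap.mulLeft F u : Module.End F L) ^ M = 1 := by
    rw [mulLeft_pow, mulLeft_eq_one, ← s3, pow_orderOf_eq_one]
  have p2 : (LinearMap.mulLeft F w : Module.End F L') ^ N = 1 := by
    rw [mulLeft_pow, mulLeft_eq_one, ← t3, pow_orderOf_eq_one]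
  obtain ⟨A, hA, e, he, heq⟩ := exists_el hQ (by rw [Fintype.card_fin]; norm_num) hs
    (x := (LinearMap.mulLeft F u).prodMap (LinearMap.mulLeft F w)) (M := M * N)
    (by
      intro v
      rw [prodForm_apply, prodForm_apply]
      change Q₁ (u * v.1) + Q₂ (w * v.2) = _
      rw [s5, t5])
    (hMo.mul hNo)
    (by
      rw [pair_pow, pow_mul, p1, one_pow, mul_comm, pow_mul, p2, one_pow]
      rfl)
  have hsim : Sim A ((LinearMap.mulLeft F u).prodMap (LinearMap.mulLeft F w)) := ⟨e, he⟩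
  have hu1 : u ≠ 1 := ne_one_of_order s3 hBn.1
  have hcase : ∀ W : Submodule F L, (∀ v ∈ W, LinearMap.mulLeft F u v ∈ W) → finrank F W = 0 ∨ finrank F W = 2 * a :=
    fun W hW => mul_case s3 s2 s4 (not_dvd_of hF _ _ hM') hW
  refine ⟨A, hA, ?_, hsim.dims fun W hW => ?_, ?_⟩
  · obtain ⟨j, hj1, hj2⟩ := exists_pow_left p1 p2 hMN
    have h := hsim.pow j
    rw [pair_pow, hj1, hj2] at h
    exact ⟨j, blk_of_pair (bn_of hF hBn) s3 s2 h⟩
  · obtain ⟨s, hs', t, ht', hst⟩ := pair_dims (S₁ := {d | d = 0 ∨ d = 2 * a}) (S₂ := {d | d = 0 ∨ d = 2 * b}) p1 p2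
      hMN (mulLeft_free hu1) hcase (fun W hW => mul_case t3 t2 t4 (not_dvd_of hF _ _ hN') hW) hW
    rw [hst]
    simp only [Set.mem_ofPred_eq] at hs' ht' ⊢
    omega
  · rintro rfl
    exact mi_of_pair he heq p1 p2 hMN (mulLeft_free hu1)
      (fun W hW h2 => by rcases hcase W hW with h | h <;> omega) t1

/-- `pos 5 + 1` -/
theorem pC : ∃ C : GL (Fin 12) F, C ∈ omegaGL ⇑Q ∧ Zd C ∧ Dims C {d | d % 5 ≤ 2} ∧ Pl ⇑Q C := by
  obtain ⟨K, _, _, _, Q₁, u, s1, s2, s3, s4, s5⟩ := exists_posN (F := F) (k := 5) (N := 31) (by norm_num)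
    (by rw [hF]; norm_num)
  have hfK : FiniteDimensional F K := Module.Finite.of_finite
  have hs := s1.prod (sg_plusForm (F := F) 1)
  have p1 : (dg F u) ^ 31 = 1 := dg_pow_eq_one s3
  have p2 : (1 : Module.End F (Fin 1 ⊕ Fin 1 → F)) ^ 1 = 1 := one_pow _
  obtain ⟨C, hC, e, he, heq⟩ := exists_el hQ (by rw [Fintype.card_fin]; norm_num) hs
    (x := (dg F u).prodMap 1) (M := 31)
    (by
      intro v
      rw [prodForm_apply, prodForm_apply]
      change Q₁ (dg F u v.1) + plusForm 1 F v.2 = _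
      rw [s5 u s4])
    (by decide)
    (by
      rw [pair_pow, p1, one_pow]
      rfl)
  have hsim : Sim C ((dg F u).prodMap (1 : Module.End F (Fin 1 ⊕ Fin 1 → F))) := ⟨e, he⟩
  have hu1 : u ≠ 1 := ne_one_of_order s3 (by norm_num)
  have hd2 : finrank F (Fin 1 ⊕ Fin 1 → F) = 2 := by
    rw [Module.finrank_fintype_fun_eq_card]
    rfl
  have hcase : ∀ W : Submodule F (K × K), (∀ v ∈ W, dg F u v ∈ W) → 5 ∣ finrank F W :=
    fun W hW => dims_dg s3 (by rw [hF]; exact ppd_31) (by norm_num) hW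
  refine ⟨C, hC, ⟨1, ?_⟩, hsim.dims fun W hW => ?_, ?_⟩
  · rw [pow_one]
    obtain ⟨h1, h2⟩ := zd_of_pair s3 s4 s2 hsim
    exact ⟨h1, _, h2⟩
  · obtain ⟨s, hs', t, ht', hst⟩ := pair_dims (S₁ := {d | 5 ∣ d}) (S₂ := {d | d ≤ 2}) p1 p2
      (Nat.coprime_one_right 31) (dg_free hu1) hcase
      (by
        intro W _
        rw [Set.mem_ofPred_eq, ← hd2]
        exact Submodule.finrank_le W) hW
    rw [hst]
    simp only [Set.mem_ofPred_eq] at hs' ht' ⊢
    omega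
  · obtain ⟨v, hv0, hv⟩ := exists_sing (F := F)
    exact pl_of_pair he heq p1 p2 (Nat.coprime_one_right 31) (dg_free hu1)
      (fun W hW h2 => by obtain ⟨c, hc⟩ := hcase W hW; omega) hd2 hv0 hv

end plus

end

end Cfsg.Agent.H989.Cov
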