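import Cfsg.Agent.H383.Cov.PlusC
import Cfsg.Agent.H383.Cov.Frame

/-!
# S2499, `Ω^±_12(2)`: tools (helper989)

* `inc_of_max` : incompatibility of two classes of `Ω(Q)` from the maximal subgroups;
* `dec_kill`, `fld_kill` : elements of prime order and stabilisers of decompositions, normalisers of fields;
* `exists_el` : elements of `Ω(Q)` from isometries of a model, with the isometry;
* `Pl`, `Mi` : the invariant planes have, resp. have no, non-zero singular vectors; `red_two`.
-/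

set_option autoImplicit false
set_option linter.unusedSectionVars false
set_option linter.style.haveILetI false

namespace Cfsg.Agent.H989.Cov

open Module Cfsg Cfsg.Geo QuadraticMap
open Cfsg.Agent.LieClassical.OrthCore Cfsg.Agent.LieClassical.OrthForms
open Cfsg.Agent.H182.Sign
open Cfsg.Agent.H278.Cov (Red Av Inc NoTwo inc_of_coatom not_av)
open Cfsg.Agent.H383.Cov
open scoped MatrixGroups Matrix

variable {ι : Type} [Fintype ι] [DecidableEq ι] {F : Type} [Field F]

/-! ### The frame -/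

section frame

variable [Fintype F]

theorem comap_map_emb {Q : (ι → F) → F} {N : Subgroup (GL ι F)} (hN : N ≤ omegaGL Q) :
    (N.comap (emb Q)).map (emb Q) = N := by
  rw [Subgroup.map_comap_eq, range_emb]
  exact inf_eq_right.2 hN

/-- coatoms of `Ω(Q)` are maximal subgroups -/
theorem isMaximalIn_map {Q : (ι → F) → F} {M : Subgroup (Omega F Q)} (hM : IsCoatom M) :
    IsMaximalIn (omegaGL Q) (M.map (emb Q)) := by
  refine ⟨lt_of_le_of_ne (map_emb_le M) (map_emb_ne hM.1), fun N h1 h2 => ?_⟩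
  have h3 : M ≤ N.comap (emb Q) := Subgroup.map_le_iff_le_comap.1 h1
  rcases eq_or_lt_of_le h3 with h4 | h4
  · left
    rw [h4, comap_map_emb h2]
  · right
    have h5 := hM.2 _ h4
    have h6 := comap_map_emb h2
    rw [h5, ← MonoidHom.range_eq_map, range_emb] at h6
    exact h6.symm

/-- two classes of `Ω(Q)` are incompatible -/
theorem inc_of_max {Q : (ι → F) → F} {A B : Omega F Q}
    (h : ∀ H : Subgroup (GL ι F), IsMaximalIn (omegaGL Q) H → ∀ g ∈ omegaGL Q, ∀ g' ∈ omegaGL Q,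
      g * emb Q A * g⁻¹ ∈ H → g' * emb Q B * g'⁻¹ ∈ H → False) : Inc A B := by
  have hfin : Finite (Omega F Q) := Finite.of_injective _ (emb_injective Q)
  apply inc_of_coatom
  intro M hM
  by_contra hcon
  rw [not_or] at hcon
  obtain ⟨g, hg⟩ := not_av hcon.1
  obtain ⟨g', hg'⟩ := not_av hcon.2
  have hmem : ∀ g : Omega F Q, emb Q g ∈ omegaGL Q := by
    intro g
    rw [← range_emb]
    exact ⟨g, rfl⟩
  refine h (M.map (emb Q)) (isMaximalIn_map hM) (emb Q g) (hmem g) (emb Q g') (hmem g') ⟨_, hg, ?_⟩ ⟨_, hg', ?_⟩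
  · rw [map_mul, map_mul, map_inv]
  · rw [map_mul, map_mul, map_inv]

end frame

/-! ### Decompositions -/

section dec

theorem D_injective {t m : ℕ} {D : Fin t → Submodule F (ι → F)} (hD : IsMDecomposition m D) : Function.Injective D := by
  intro i j hij
  by_contra hne
  have h1 := hD.indep.pairwiseDisjoint hne
  change Disjoint (D i) (D j) at h1
  rw [hij, disjoint_self] at h1
  have h2 := hD.finrank_eq j
  rw [h1, finrank_bot] at h2
  exact hD.pos.ne h2

theorem exists_permHom {t m : ℕ} {D : Fin t → Submodule F (ι → F)} (hD : IsMDecomposition m D) :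
    ∃ f : decompositionStabilizer D →* Equiv.Perm (Fin t), ∀ (g : decompositionStabilizer D) (i : Fin t),
      (D i).map (Matrix.toLin' ((g : GL ι F) : Matrix ι ι F)) = D (f g i) := by
  choose f hf using fun g : decompositionStabilizer D => g.2
  refine ⟨MonoidHom.mk' f (fun g h => ?_), hf⟩
  ext i : 1
  apply D_injective hD
  rw [← hf, Equiv.Perm.mul_apply, ← hf g, ← hf h, Subgroup.coe_mul, Units.val_mul, Matrix.toLin'_mul,
    Submodule.map_comp]

/-- an element of prime order `> t` stabilising a decomposition with `t` members fixes the members -/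
theorem dec_fix {t m : ℕ} {D : Fin t → Submodule F (ι → F)} (hD : IsMDecomposition m D) {x : GL ι F}
    (hx : x ∈ decompositionStabilizer D) (hp : (orderOf x).Prime) (ht : t < orderOf x) (i : Fin t) :
    ∀ w ∈ D i, Matrix.toLin' (x : Matrix ι ι F) w ∈ D i := by
  obtain ⟨f, hf⟩ := exists_permHom hD
  have h1 : (f ⟨x, hx⟩) ^ orderOf x = 1 := by
    rw [← map_pow]
    have h2 : (⟨x, hx⟩ : decompositionStabilizer D) ^ orderOf x = 1 := Subtype.ext (pow_orderOf_eq_one x)
    rw [h2, map_one]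
  have h2 : orderOf (f ⟨x, hx⟩) ∣ orderOf x := orderOf_dvd_of_pow_eq_one h1
  have h3 : f ⟨x, hx⟩ = 1 := by
    rcases (Nat.dvd_prime hp).1 h2 with h | h
    · exact orderOf_eq_one_iff.1 h
    · exfalso
      have h4 : orderOf (f ⟨x, hx⟩) ∣ Nat.card (Equiv.Perm (Fin t)) := orderOf_dvd_natCard _
      rw [h, Nat.card_perm, Nat.card_fin, hp.dvd_factorial] at h4
      omega
  intro w hw
  have h4 := hf ⟨x, hx⟩ i
  rw [h3, Equiv.Perm.one_apply] at h4
  rw [← h4]
  exact ⟨w, hw, rfl⟩

/-- an element of prime order with a large irreducible block stabilises no decomposition with few small members -/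
theorem dec_kill [Finite F] {t m k : ℕ} {D : Fin t → Submodule F (ι → F)} (hD : IsMDecomposition m D) {x : GL ι F}
    (hx : x ∈ decompositionStabilizer D) (hp : (orderOf x).Prime) (ht : t < orderOf x) (hb : Blk k x)
    (hm : m < k) : False := by
  have h1 : ∀ i, ∀ w ∈ D i, Matrix.toLin' (x : Matrix ι ι F) w = w := fun i w hw =>
    fix_of_lt (toLin_pow_orderOf x) hb.copq hb.cop (dec_fix hD hx hp ht i) (by rw [hD.finrank_eq]; exact hm) hw
  have h2 : iSup D ≤ LinearMap.ker (Matrix.toLin' (x : Matrix ι ι F) - 1) := by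
    apply iSup_le
    intro i w hw
    rw [LinearMap.mem_ker]
    exact sub_eq_zero.2 (h1 i w hw)
  rw [hD.iSup_eq_top, top_le_iff, LinearMap.ker_eq_top] at h2
  have h3 := hb.rk
  rw [h2, LinearMap.range_zero, finrank_bot] at h3
  omega

end dec

/-! ### Fields -/

/-- an element of order prime to `r` normalising a field of degree `r` -/
theorem fld_kill [Finite F] [Nonempty ι] {r : ℕ} {E : Subalgebra F (Matrix ι ι F)} (hE : IsFieldSubalgebra r E)
    {x : GL ι F} (hx : x ∈ subalgebraNormalizer E) (hco : (orderOf x).Coprime r)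
    (hk : ¬ r ∣ finrank F (LinearMap.range (Matrix.toLin' (x : Matrix ι ι F) - 1))) : False := by
  apply hk
  have h1 : Matrix.toLin' (x : Matrix ι ι F) - 1 = Matrix.toLin' ((x : Matrix ι ι F) - 1) := by
    rw [map_sub, Matrix.toLin'_one]
    rfl
  rw [h1]
  apply dvd_range hE
  intro e he
  rw [sub_mul, mul_sub, comm_of_coprime hE hx hco he, one_mul, mul_one]

/-! ### Elements from models -/

section el

variable [Finite F]

/-- elements of `omegaGL Q` from isometries of odd order of another model -/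
theorem exists_el {Q : QuadraticForm F (ι → F)} {n : ℕ} {ε : ℤ} (hQ : Sg Q n ε) (h5 : 5 ≤ Fintype.card ι)
    {V : Type} [AddCommGroup V] [Module F V] [Finite V] {Q' : QuadraticForm F V} (hQ' : Sg Q' n ε)
    {x : Module.End F V} (hx : ∀ v, Q' (x v) = Q' v) {M : ℕ} (hM : Odd M) (hxM : x ^ M = 1) :
    ∃ X : GL ι F, X ∈ omegaGL ⇑Q ∧ ∃ e : (ι → F) ≃ₗ[F] V, (∀ v, e ((X : Matrix ι ι F) *ᵥ v) = x (e v)) ∧
      ∀ v, Q' (e v) = Q v := by
  obtain ⟨e, he⟩ := Sg.exists_equiv hQ hQ'
  have hM0 : M ≠ 0 := fun h => by rw [h] at hM; exact absurd hM (by decide)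
  let φ : Module.End F V ≃ₐ[F] Matrix ι ι F := (e.symm.conjAlgEquiv F).trans LinearMap.toMatrixAlgEquiv'
  have hφ : ∀ (S : Module.End F V) (v : ι → F), (φ S).mulVec v = e.symm (S (e v)) := by
    intro S v
    show (LinearMap.toMatrix' (e.symm.conj S)).mulVec v = _
    rw [LinearMap.toMatrix'_mulVec]
    rfl
  have hunit : IsUnit (φ x) := by
    apply IsUnit.of_pow_eq_one (n := M) _ hM0
    rw [← map_pow, hxM, map_one]
  obtain ⟨X, hX⟩ := hunit
  have hsim : ∀ v, e ((X : Matrix ι ι F) *ᵥ v) = x (e v) := by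
    intro v
    rw [hX, hφ, e.apply_symm_apply]
  have hmem : X ∈ isometryGroup F ⇑Q := by
    rw [Cfsg.Agent.LieClassical.OrthFinite.mem_isometryGroup_iff]
    intro v
    rw [← he, hsim, hx, he]
  refine ⟨X, mem_omegaGL_of_odd hQ.nondeg h5 hmem hM ?_, e, hsim, he⟩
  exact (Sim.pow_eq_one_iff ⟨e, hsim⟩ M).2 hxM

end el

/-! ### The types of the invariant planes -/

/-- every invariant plane contains a non-zero singular vector -/
def Pl (Q : (ι → F) → F) (x : GL ι F) : Prop :=
  ∀ W : Submodule F (ι → F), (∀ w ∈ W, (x : Matrix ι ι F) *ᵥ w ∈ W) → finrank F W = 2 → ∃ w ∈ W, w ≠ 0 ∧ Q w = 0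

/-- no invariant plane contains a non-zero singular vector -/
def Mi (Q : (ι → F) → F) (x : GL ι F) : Prop :=
  ∀ W : Submodule F (ι → F), (∀ w ∈ W, (x : Matrix ι ι F) *ᵥ w ∈ W) → finrank F W = 2 → ∀ w ∈ W, Q w = 0 → w = 0

theorem comap_inv {W : Submodule F (ι → F)} {x g : GL ι F}
    (hW : ∀ w ∈ W, ((g * x * g⁻¹ : GL ι F) : Matrix ι ι F) *ᵥ w ∈ W) :
    ∀ w ∈ W.comap (eqv g : (ι → F) →ₗ[F] (ι → F)), (x : Matrix ι ι F) *ᵥ w ∈ W.comap (eqv g : (ι → F) →ₗ[F] (ι → F)) := by
  intro w hw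
  rw [Submodule.mem_comap] at hw ⊢
  change (g : Matrix ι ι F) *ᵥ w ∈ W at hw
  change (g : Matrix ι ι F) *ᵥ ((x : Matrix ι ι F) *ᵥ w) ∈ W
  have h2 := hW _ hw
  rw [Units.val_mul, Units.val_mul, Matrix.mulVec_mulVec, mul_assoc, ← Units.val_mul g⁻¹ g, inv_mul_cancel,
    Units.val_one, mul_one, ← Matrix.mulVec_mulVec] at h2
  exact h2

theorem finrank_comap_eqv (g : GL ι F) (W : Submodule F (ι → F)) :
    finrank F (W.comap (eqv g : (ι → F) →ₗ[F] (ι → F))) = finrank F W := by
  rw [Submodule.comap_equiv_eq_map_symm]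
  exact LinearEquiv.finrank_map_eq (eqv g).symm W

theorem Pl.conj {Q : (ι → F) → F} {x : GL ι F} (h : Pl Q x) {g : GL ι F} (hg : g ∈ isometryGroup F Q) :
    Pl Q (g * x * g⁻¹) := by
  intro W hW h2
  obtain ⟨w, hw, hw0, hq⟩ := h _ (comap_inv hW) (by rw [finrank_comap_eqv, h2])
  refine ⟨(g : Matrix ι ι F) *ᵥ w, hw, fun h0 => hw0 ?_, ?_⟩
  · have h3 : eqv g w = 0 := h0
    exact (LinearEquiv.map_eq_zero_iff _).1 h3
  · rw [← hq]
    exact hg w w

theorem Mi.conj {Q : (ι → F) → F} {x : GL ι F} (h : Mi Q x) {g : GL ι F} (hg : g ∈ isometryGroup F Q) :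
    Mi Q (g * x * g⁻¹) := by
  intro W hW h2 w hw hq
  have h3 := h _ (comap_inv hW) (by rw [finrank_comap_eqv, h2]) ((eqv g).symm w)
    (by
      rw [Submodule.mem_comap]
      change eqv g ((eqv g).symm w) ∈ W
      rw [(eqv g).apply_symm_apply]
      exact hw)
    (by
      have h4 : Q ((g : Matrix ι ι F) *ᵥ ((eqv g).symm w)) = Q ((eqv g).symm w) := hg ((eqv g).symm w) ((eqv g).symm w)
      have h5 : (g : Matrix ι ι F) *ᵥ ((eqv g).symm w) = w := (eqv g).apply_symm_apply w
      rw [h5, hq] at h4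
      exact h4.symm)
  exact (LinearEquiv.map_eq_zero_iff _).1 h3

section perp

variable [Finite F]

/-- the orthogonal complement -/
def prp (Q : QuadraticForm F (ι → F)) (W : Submodule F (ι → F)) : Submodule F (ι → F) :=
  LinearMap.BilinForm.orthogonal (polarBilin Q) W

theorem mem_prp {Q : QuadraticForm F (ι → F)} {W : Submodule F (ι → F)} {v : ι → F} :
    v ∈ prp Q W ↔ ∀ w ∈ W, polar Q w v = 0 := by
  rw [prp, LinearMap.BilinForm.mem_orthogonal_iff]
  rfl

theorem finrank_prp {Q : QuadraticForm F (ι → F)} (hQ : Nondeg Q) (W : Submodule F (ι → F)) :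
    finrank F (prp Q W) = Fintype.card ι - finrank F W := by
  rw [prp, LinearMap.BilinForm.finrank_orthogonal, Module.finrank_fintype_fun_eq_card]
  exact nondegenerate_iff_nondeg.2 hQ

theorem prp_inv {Q : QuadraticForm F (ι → F)} {W : Submodule F (ι → F)} {x : GL ι F} (hx : x ∈ isometryGroup F ⇑Q)
    (hW : ∀ w ∈ W, ((x⁻¹ : GL ι F) : Matrix ι ι F) *ᵥ w ∈ W) : ∀ v ∈ prp Q W, (x : Matrix ι ι F) *ᵥ v ∈ prp Q W := by
  intro v hv
  rw [mem_prp] at hv ⊢
  intro w hw
  have h1 := hv _ (hW w hw)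
  have h2 := polar_isom hx (((x⁻¹ : GL ι F) : Matrix ι ι F) *ᵥ w) v
  rw [Matrix.mulVec_mulVec, ← Units.val_mul, mul_inv_cancel, Units.val_one, Matrix.one_mulVec] at h2
  rw [h2, h1]

/-- a reducible group containing an element of each type, when only the dimensions 2 and `n - 2` are common -/
theorem red_two {Q : QuadraticForm F (ι → F)} (hQ : Nondeg Q) {H : Subgroup (GL ι F)} (hR : Red H)
    (hH : H ≤ isometryGroup F ⇑Q) {x y : GL ι F} (hx : x ∈ H) (hy : y ∈ H) {S T : Set ℕ}
    (dx : Dims x S) (dy : Dims y T) (px : Pl ⇑Q x) (my : Mi ⇑Q y)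
    (hST : ∀ d, 0 < d → d < Fintype.card ι → d ∈ S → d ∈ T → d = 2 ∨ Fintype.card ι = d + 2) : False := by
  obtain ⟨W, h0, h1, hW⟩ := hR
  have hinv : ∀ z ∈ H, ∀ w ∈ W, (z : Matrix ι ι F) *ᵥ w ∈ W := fun z hz w hw => (hW hz w).1 hw
  have key : ∀ W : Submodule F (ι → F), (∀ z ∈ H, ∀ w ∈ W, (z : Matrix ι ι F) *ᵥ w ∈ W) → finrank F W = 2 → False := by
    intro W hW h2
    obtain ⟨w, hw, hw0, hq⟩ := px W (hW x hx) h2
    exact hw0 (my W (hW y hy) h2 w hw hq)
  rcases hST (finrank F W) (Nat.pos_of_ne_zero fun h => h0 (Submodule.finrank_eq_zero.1 h))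
    (by rw [← Module.finrank_fintype_fun_eq_card (R := F)]; exact Submodule.finrank_lt h1)
    (dx W (hinv x hx)) (dy W (hinv y hy)) with h2 | h2
  · exact key W hinv h2
  · refine key (prp Q W) (fun z hz => prp_inv (hH hz) (hinv _ (H.inv_mem hz))) ?_
    rw [finrank_prp hQ, h2]
    omega

end perp

end Cfsg.Agent.H989.Cov
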